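import Cfsg.Agent.Lib.MTwentyFour.Eleven.Checks

/-!
The finite check for the principal family at 11 with automizer of order 5.
-/

set_option autoImplicit false

namespace Cfsg.Lib.MTwentyFour.Eleven

open Cfsg.Lib.MTwentyFour.Search

theorem checkA_two : checkA 2 ((kFor 2).filter fun K => K != 276 && K != 3312) = true := by decide +kernel

theorem checkA_24 : checkA 24 (kFor 24) = true := by decide +kernel

theorem checkA_288 : checkA 288 (kFor 288) = true := by decide +kernel

end Cfsg.Lib.MTwentyFour.Eleven
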