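import Cfsg.Agent.Lib.MTwentyFour.Eleven.Checks

/-!
The finite check for the principal family at 5.
-/

set_option autoImplicit false

namespace Cfsg.Lib.MTwentyFour.Eleven

open Cfsg.Lib.MTwentyFour.Search

theorem checkB_five : (fam5.all (killB 5 (ord24 / 22) [276, 3312])) = true := by decide +kernel

theorem checkB_ten : (fam5.all (killB 10 (ord24 / 132) kTen)) = true := by decide +kernel

end Cfsg.Lib.MTwentyFour.Eleven
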