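import Cfsg.Agent.Lib.MTwentyFour.Search.Defs

/-!
The finite checks for the Sylow subgroup of order 11 in a simple group of order 244823040.
Members of a family are coded by their signed degrees, values at an involution by signed values.
-/

set_option autoImplicit false

namespace Cfsg.Lib.MTwentyFour.Eleven

open Cfsg.Lib.MTwentyFour.Search

/-- The products of prime powers with bounded exponents. -/
def dl : List (ℕ × ℕ) → List ℕ
  | [] => [1]
  | q :: t => (List.range (q.2 + 1)).flatMap fun i => (dl t).map (q.1 ^ i * ·)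

/-- The divisors of the group order. -/
def dAll : List ℕ := dl [(2, 10), (3, 3), (5, 1), (7, 1), (11, 1), (23, 1)]

def dv (M : ℕ) : List ℕ := dAll.filter fun d => M % d == 0

/-- The residues modulo 23 of a degree. -/
def r23 (d : ℕ) : Bool :=
  d % 23 == 0 || d % 23 == 1 || d % 23 == 22 || d % 23 == 11 || d % 23 == 12

/-- Signed degree from the residue. -/
def sgd (p f d : ℕ) : List ℤ :=
  if d % p == f then [(d : ℤ)] else if d % p == p - f then [-(d : ℤ)] else []

/-- The candidates for a member. -/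
def cands (p f dmin M : ℕ) (noexc : Bool) : List ℤ :=
  (dv M).flatMap fun d =>
    if Nat.ble dmin d && Nat.ble (d * d) ord24 && r23 d && !(noexc && isExc d) then sgd p f d else []

/-- Twice the signed mean value at an element of order 23. -/
def xw (x : ℤ) : ℤ := if (0 : ℤ) ≤ x then w23 x.natAbs else -(w23 x.natAbs)

/-- No exceptional member or exactly a pair. -/
def excOk (l : List ℤ) : Bool :=
  match l.filter fun x => isExc x.natAbs with
  | [] => true
  | [a, b] => a == b
  | _ => false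

def isqAux (n : ℕ) : ℕ → ℕ → ℕ
  | 0, s => s
  | k + 1, s => if Nat.ble ((s + 2 ^ k) * (s + 2 ^ k)) n then isqAux n k (s + 2 ^ k) else isqAux n k s

/-- A lower square root. -/
def isq (n : ℕ) : ℕ := isqAux n 40 0

/-- Not a square. -/
def notSq (r : ℤ) : Bool :=
  decide (r < 0) ||
    (Nat.blt (isq r.natAbs * isq r.natAbs) r.natAbs &&
      Nat.blt r.natAbs ((isq r.natAbs + 1) * (isq r.natAbs + 1)))

/-- The conditions on a signed value at an involution in a class of size `K`. -/
def inBox (K : ℕ) (s u : ℤ) : Bool :=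
  Nat.blt u.natAbs s.natAbs && Nat.ble (u.natAbs * u.natAbs) (ord24 / K) &&
    (K * u.natAbs) % s.natAbs == 0

/-- The possible signed values congruent to the signed degree modulo `m`. -/
def dom (K : ℕ) (s : ℤ) (m : ℕ) : List ℤ :=
  ((List.range (min (isq (ord24 / K)) s.natAbs / m + 2)).flatMap fun i : ℕ =>
    [s % (m : ℤ) + (m : ℤ) * (i : ℤ), s % (m : ℤ) - (m : ℤ) * ((i : ℤ) + 1)]).filter (inBox K s)

/-- The class sizes of an involution. -/
def kList : List ℕ := (dl [(2, 9), (3, 3), (7, 1)]).map (23 * ·)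

def kOk : Bool :=
  kList.all fun K => Nat.blt (ord24 / K) ((isq (ord24 / K) + 1) * (isq (ord24 / K) + 1))

theorem kOk_eq : kOk = true := by decide +kernel

/-! The family at 11 with automizer of order 5. -/

def modA (s : ℤ) : ℕ := if s % 5 == 0 then 220 else 44

def famA (c : ℕ) : List (ℤ × ℤ × ℤ × ℤ × ℤ) :=
  let L := cands 11 1 22 (ord24 / (11 * c)) false
  L.flatMap fun a => (L.filter fun x => decide (a ≤ x)).flatMap fun b =>
    (L.filter fun x => decide (b ≤ x)).flatMap fun c₁ =>
      (cands 11 6 22 (ord24 / (11 * c)) true).flatMap fun t =>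
        if decide (c₁ ≤ -(1 + a + b + c₁ + t)) &&
            (2 + xw a + xw b + xw c₁ + xw (-(1 + a + b + c₁ + t)) + xw t == 0) &&
            L.contains (-(1 + a + b + c₁ + t)) &&
            excOk [a, b, c₁, -(1 + a + b + c₁ + t)] then [(a, b, c₁, -(1 + a + b + c₁ + t), t)] else []

def killA (K : ℕ) : ℤ × ℤ × ℤ × ℤ × ℤ → Bool
  | (a, b, c, l, t) =>
    (dom K t (modA t)).all fun w => (dom K a (modA a)).all fun u₁ => (dom K b (modA b)).all fun u₂ =>
      decide (((ord24 / K : ℕ) : ℤ) < 1 + 2 * (w * w) + (u₁ * u₁ + u₂ * u₂)) ||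
      (dom K c (modA c)).all fun u₃ =>
        !(((-(1 + u₁ + u₂ + u₃ + w) - l) % (modA l : ℤ) == 0) && inBox K l (-(1 + u₁ + u₂ + u₃ + w)) &&
          decide (1 + u₁ * u₁ + u₂ * u₂ + u₃ * u₃ + (1 + u₁ + u₂ + u₃ + w) * (1 + u₁ + u₂ + u₃ + w) +
              2 * (w * w) ≤ ((ord24 / K : ℕ) : ℤ)) &&
          (a * b * c * l * t + u₁ * u₁ * b * c * l * t + a * u₂ * u₂ * c * l * t + a * b * u₃ * u₃ * l * t +
              a * b * c * ((1 + u₁ + u₂ + u₃ + w) * (1 + u₁ + u₂ + u₃ + w)) * t +
              a * b * c * l * (w * w) == 0))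

def checkA (c : ℕ) (Ks : List ℕ) : Bool := (famA c).all fun f => Ks.all fun K => killA K f

/-- The class sizes allowed by the count of Sylow subgroups in the centralizer. -/
def kFor (c : ℕ) : List ℕ :=
  kList.filter fun K => (List.range (c + 1)).any fun w =>
    w % 2 == 0 && c % w == 0 && ord24 / K % (55 * w) == 0 && ord24 / K / (55 * w) % 11 == 1

/-! The principal family at 5. -/

def fam5 : List (ℤ × ℤ × ℤ × ℤ) :=
  let L := cands 5 1 10 (ord24 / 10) false
  L.flatMap fun a => (L.filter fun x => decide (a ≤ x)).flatMap fun b =>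
    (L.filter fun x => decide (b ≤ x)).flatMap fun c =>
      if decide (c ≤ -(1 + a + b + c)) && (2 + xw a + xw b + xw c + xw (-(1 + a + b + c)) == 0) &&
          L.contains (-(1 + a + b + c)) && excOk [a, b, c, -(1 + a + b + c)] then
        [(a, b, c, -(1 + a + b + c))] else []

/-- Membership in the family at 11 with the signed weight. -/
def opts (e M : ℕ) (s : ℤ) : List (ℕ × ℤ) :=
  (0, 0) :: if Nat.ble 22 s.natAbs && M % s.natAbs == 0 then
    (if s.natAbs % 11 == 1 then [(1, (if (0 : ℤ) ≤ s then 1 else -1) * (if e == 5 then 2 else 1))]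
     else if s.natAbs % 11 == 10 then [(1, (if (0 : ℤ) ≤ s then -1 else 1) * (if e == 5 then 2 else 1))]
     else if e == 5 && s.natAbs % 11 == 5 then [(2, if (0 : ℤ) ≤ s then -1 else 1)]
     else if e == 5 && s.natAbs % 11 == 6 then [(2, if (0 : ℤ) ≤ s then 1 else -1)]
     else [])
  else []

def dom5 (e K : ℕ) (s : ℤ) (o : ℕ × ℤ) : List ℤ :=
  if o.1 == 0 then
    (if e == 5 then (dom K s 20).filter fun u => (u + s) % 22 == 0 else dom K s 20)
  else dom K s 220

/-- The divisors of `N / 20` prime to 11 and 23. -/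
def qList : List ℕ := dl [(2, 8), (3, 3), (7, 1)]

def killV (e K : ℕ) : ℤ × ℤ × ℤ × ℤ → ℤ × ℤ × ℤ × ℤ → Bool
  | (a, b, c, l), (u₁, u₂, u₃, u₄) =>
    if e == 5 then decide (((ord24 / K : ℕ) : ℤ) < 1 + u₁ * u₁ + u₂ * u₂ + u₃ * u₃ + u₄ * u₄)
    else (dom K 3840 220).all (fun v =>
        decide (((ord24 / K : ℕ) : ℤ) < 1 + v * v + (u₁ * u₁ + u₂ * u₂ + u₃ * u₃ + u₄ * u₄))) ||
      qList.all fun q =>
        let R : ℤ := (q : ℤ) * (ord24 : ℤ) * (a * b * c * l + u₁ * u₁ * b * c * l + a * u₂ * u₂ * c * l +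
          a * b * u₃ * u₃ * l + a * b * c * u₄ * u₄)
        let D : ℤ := 5 * ((ord24 / K : ℕ) : ℤ) * ((ord24 / K : ℕ) : ℤ) * (a * b * c * l)
        !(R % D == 0) || notSq (R / D)

def killB (e M : ℕ) (Ks : List ℕ) : ℤ × ℤ × ℤ × ℤ → Bool
  | (a, b, c, l) =>
    (e == 10 && (a == -24 || b == -24 || c == -24 || l == -24)) ||
    (opts e M a).all fun oa => (opts e M b).all fun ob => (opts e M c).all fun oc => (opts e M l).all fun ol =>
      !((if e == 5 then 2 else 1) + oa.2 + ob.2 + oc.2 + ol.2 == 0) ||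
        Ks.all fun K => (dom5 e K a oa).all fun u₁ => (dom5 e K b ob).all fun u₂ =>
          (dom5 e K c oc).all fun u₃ =>
            !((dom5 e K l ol).contains (-(1 + u₁ + u₂ + u₃))) ||
              killV e K (a, b, c, l) (u₁, u₂, u₃, -(1 + u₁ + u₂ + u₃))

def kTen : List ℕ := kList.filter fun K => !(dom K 3840 220).isEmpty

/-! Automizers of order two. -/

def pairTest (p dmin M : ℕ) (qs : List ℕ) : Bool :=
  (cands p 1 dmin M true).all fun s =>
    !(M % (-(1 + s)).natAbs == 0 && r23 (-(1 + s)).natAbs && !isExc (-(1 + s)).natAbs &&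
      2 + xw s + xw (-(1 + s)) == 0) ||
      qs.all fun q => notSq ((p : ℤ) * (q : ℤ) * (ord24 : ℤ) * (s * (1 + s)))

theorem pair_five : pairTest 5 10 (ord24 / 10)
    ((dv (ord24 / 10)).filter fun q => q % 11 != 0) = true := by decide +kernel

theorem pair_eleven : pairTest 11 22 (ord24 / 11)
    ((dv (ord24 / 22)).filter fun q => q % 7 != 0) = true := by decide +kernel

/-! The cofactors. -/

def optTest11 (c : ℕ) : Bool :=
  c % 7 == 0 || c % 23 == 0 ||
    [(5, [2, 24, 288, 3456]), (10, [1, 12, 144, 1728])].all fun q : ℕ × List ℕ =>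
      22256640 % (q.1 * c) != 0 || 22256640 / (q.1 * c) % 11 != 1 || q.2.contains c

theorem opt_eleven : (dv 22256640).all optTest11 = true := by decide +kernel

theorem opt_two_ne_one : 22256640 / 2 % 11 ≠ 1 := by decide +kernel

theorem zero_w : ([144, 1728].all fun c =>
      (cands 11 1 22 (ord24 / (11 * c)) false).all fun s => xw s == 0) = true ∧
    ((cands 11 1 22 (ord24 / (11 * 3456)) false).all fun s => xw s == 0) = true ∧
    ((cands 11 6 22 (ord24 / (11 * 3456)) true).all fun s => xw s == 0) = true ∧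
    ((cands 11 1 22 (ord24 / 132) false).all fun s => decide (0 ≤ xw s) || s == 45 || s == 3840) = true := by
  refine ⟨?_, ?_, ?_, ?_⟩ <;> decide +kernel

end Cfsg.Lib.MTwentyFour.Eleven
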