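import Cfsg.Agent.Lib.MTwentyFour.Eleven.Tools
import Cfsg.Agent.Lib.MTwentyFour.Eleven.Checks

/-!
The signed degrees and signed values of the members of a principal family in a simple group of order
244823040, as data for the finite checks.
-/

set_option autoImplicit false
set_option linter.style.haveILetI false
set_option linter.unusedSectionVars false

namespace Cfsg.Lib.MTwentyFour.Eleven

open Cfsg Cfsg.Lib Cfsg.Lib.Block
open Cfsg.Lib.MTwentyFour.Search (isExc w23 ord24)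
open scoped ComplexConjugate Classical

universe u

noncomputable local instance (priority := high) fintypeSubgroupFam {A : Type u}
    [Group A] [Fintype A] (H : Subgroup A) : Fintype H := Fintype.ofFinite H

local notation "C[" P "]" => Subgroup.centralizer (SetLike.coe P)

theorem mem_dl : ∀ (l : List (ℕ × ℕ)), (∀ q ∈ l, q.1.Prime) → ∀ {n : ℕ},
    n ∣ (l.map fun q => q.1 ^ q.2).prod → n ∈ dl l := by
  intro l
  induction l with
  | nil => intro _ n hn; simpa [dl] using hn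
  | cons q t ih =>
    intro hp n hn
    rw [List.map_cons, List.prod_cons] at hn
    obtain ⟨a, b, ha, hb, rfl⟩ := Nat.dvd_mul.1 hn
    obtain ⟨i, hi, rfl⟩ := (Nat.dvd_prime_pow (hp q List.mem_cons_self)).1 ha
    simp only [dl, List.mem_flatMap, List.mem_range, List.mem_map]
    exact ⟨i, by omega, b, ih (fun r hr => hp r (List.mem_cons_of_mem _ hr)) hb, rfl⟩

theorem mem_dAll {d : ℕ} (h : d ∣ ord24) : d ∈ dAll := by
  refine mem_dl _ (fun q hq => ?_) (h.trans (dvd_of_eq (by norm_num)))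
  simp only [List.mem_cons, List.not_mem_nil, or_false] at hq
  rcases hq with rfl | rfl | rfl | rfl | rfl | rfl <;> norm_num

theorem mem_dv {d M : ℕ} (hM : M ∣ ord24) (hd : d ∣ M) : d ∈ dv M :=
  List.mem_filter.2 ⟨mem_dAll (hd.trans hM), by simp [Nat.mod_eq_zero_of_dvd hd]⟩

theorem mem_kList {K : ℕ} (h23 : 23 ∣ K) (h : K ∣ 23 * 96768) : K ∈ kList := by
  obtain ⟨k, rfl⟩ := h23
  refine List.mem_map.2 ⟨k, mem_dl _ (fun q hq => ?_)
    ((Nat.dvd_of_mul_dvd_mul_left (by norm_num) h).trans (dvd_of_eq (by norm_num))), rfl⟩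
  simp only [List.mem_cons, List.not_mem_nil, or_false] at hq
  rcases hq with rfl | rfl | rfl <;> norm_num

/-- A finite set of four elements listed in the order of a key. -/
theorem exists_quad {α : Type*} (T : Finset α) (hT : T.card = 4) (key : α → ℤ) :
    ∃ a b c d, key a ≤ key b ∧ key b ≤ key c ∧ key c ≤ key d ∧ [a, b, c, d].Nodup ∧
      (∀ x, x ∈ T ↔ x ∈ [a, b, c, d]) ∧
      ∀ f : α → ℤ, ∑ x ∈ T, f x = f a + f b + f c + f d := by
  set L := T.toList.mergeSort (fun x y => decide (key x ≤ key y)) with hL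
  have hp : L.Perm T.toList := List.mergeSort_perm _ _
  have hlen : L.length = 4 := by rw [hp.length_eq, Finset.length_toList, hT]
  have hs : L.Pairwise fun x y => key x ≤ key y := by
    have h := List.pairwise_mergeSort (le := fun x y => decide (key x ≤ key y))
      (fun a b c h1 h2 => by simp at h1 h2 ⊢; omega) (fun a b => by simp; omega) T.toList
    exact h.imp fun h => by simpa using h
  have hnd : L.Nodup := hp.nodup_iff.2 T.nodup_toList
  have hmem : ∀ x, x ∈ T ↔ x ∈ L := fun x => by rw [hp.mem_iff, Finset.mem_toList]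
  have hsum : ∀ f : α → ℤ, ∑ x ∈ T, f x = (L.map f).sum := fun f => by
    rw [(hp.map f).sum_eq, Finset.sum_map_toList]
  clear_value L
  match L, hlen, hs, hnd, hmem, hsum with
  | [a, b, c, d], _, hs, hnd, hmem, hsum =>
    simp only [List.pairwise_cons, List.mem_cons, List.not_mem_nil, or_false] at hs
    exact ⟨a, b, c, d, hs.1 b (Or.inl rfl), hs.2.1 c (Or.inl rfl), hs.2.2.1 d rfl, hnd, hmem,
      fun f => by rw [hsum f]; simp only [List.map_cons, List.map_nil, List.sum_cons, List.sum_nil]; ring⟩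

variable {G : Type u} [Group G] [Fintype G]

/-- The column at an element of order 23 and the residues of the degrees. -/
structure Ctx (G : Type u) [Group G] [Fintype G] where
  /-- the element of order 23 -/
  x : G
  /-- the first exceptional character -/
  ψ₁ : IrrCharacter G
  /-- the second exceptional character -/
  ψ₂ : IrrCharacter G
  hcard : Nat.card G = ord24
  order : orderOf x = 23
  exc : ExcPair x ψ₁ ψ₂
  res : ∀ χ : IrrCharacter G, r23 (dg χ) = true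
  cent : ∀ u g : G, orderOf u = 23 → Commute u g → orderOf g ∣ 23

theorem exists_ctx [IsSimpleGroup G] (hcard : Nat.card G = ord24) : Nonempty (Ctx G) := by
  haveI : Fact (Nat.Prime 23) := ⟨by norm_num⟩
  have hd : 23 ∣ Nat.card G := hcard ▸ by norm_num
  have hsq : ¬ 23 * 23 ∣ Nat.card G := hcard ▸ by norm_num
  have hcent : ∀ u : G, orderOf u = 23 → Nat.card (Subgroup.centralizer ({u} : Set G)) = 23 := by
    intro u hu
    obtain ⟨Q, hQ⟩ := (IsPGroup.of_card (G := ↥(Subgroup.zpowers u)) (p := 23) (n := 1)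
      (by rw [Nat.card_zpowers, hu, pow_one])).exists_le_sylow
    have hQc : Nat.card (Q : Subgroup G) = 23 := Order175560.sylow_card_eq hd hsq Q
    rw [centralizer_singleton_eq hQc (hQ (Subgroup.mem_zpowers u))
      (fun h => by rw [h, orderOf_one] at hu; omega)]
    exact (local_twentyThree hcard Q).1
  obtain ⟨P⟩ : Nonempty (Sylow 23 G) := inferInstance
  have hPc : Nat.card (P : Subgroup G) = 23 := Order175560.sylow_card_eq hd hsq P
  obtain ⟨⟨x, hxP⟩, hxo⟩ := exists_prime_orderOf_dvd_card' (G := (P : Subgroup G)) 23 (by rw [hPc])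
  rw [Subgroup.orderOf_mk] at hxo
  obtain ⟨hC, he⟩ := local_twentyThree hcard P
  obtain ⟨⟨ψ₁, ψ₂, hexc⟩, -, hres⟩ := column_big P
    (by rw [hcard]; exact factorization_eq (r := 23) (k := 1) (m := 10644480) (by norm_num) (by norm_num) (by norm_num))
    hPc hC he hxP hxo (hcent x hxo)
  exact ⟨⟨x, ψ₁, ψ₂, hcard, hxo, hexc, fun χ => by
    rcases hres χ with h | h | h | h | h <;> simp [r23, h],
    fun u g hu hg => by
      have h := hcent u hu
      exact h ▸ Subgroup.orderOf_dvd_natCard _ (Subgroup.mem_centralizer_singleton_iff.2 hg.eq.symm)⟩⟩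

namespace Ctx

variable (X : Ctx G)
include X

theorem dvd_ord (χ : IrrCharacter G) : dg χ ∣ ord24 := X.hcard ▸ Block.charDegree_dvd_card χ

theorem sq_le (χ : IrrCharacter G) : dg χ * dg χ ≤ ord24 := by
  have h := MEleven.sum_sq_deg_le ({χ} : Finset (IrrCharacter G))
  rw [Finset.sum_singleton, X.hcard, pow_two] at h
  exact h

end Ctx

variable {p : ℕ} [Fact p.Prime] {P : Sylow p G} {e : ℕ}

/-- The signed degree. -/
noncomputable def sd (S : Small.Shape P e) (χ : IrrCharacter G) : ℤ := S.σ χ * (dg χ : ℤ)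

/-- The signed value at an involution. -/
noncomputable def su (S : Small.Shape P e) (z : G) (χ : IrrCharacter G) : ℤ :=
  S.σ χ * MTwentyTwo.intVal z χ

variable (S : Small.Shape P e)

theorem sd_natAbs {χ : IrrCharacter G} (hχ : χ ∈ S.Z) : (sd S χ).natAbs = dg χ := by
  rcases S.sign χ hχ with h | h <;> simp [sd, h]

theorem sd_ne_zero {χ : IrrCharacter G} (hχ : χ ∈ S.Z) : sd S χ ≠ 0 := fun h =>
  (Block.charDegree_pos χ).ne' (by
    have := sd_natAbs S hχ
    rw [h] at this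
    exact this.symm)

theorem sd_one : sd S (Small.one' G) = 1 := by
  rw [sd, S.sign_one, show dg (Small.one' G) = 1 from Small.charDegree_one']; rfl

theorem xw_sd {χ : IrrCharacter G} (hχ : χ ∈ S.Z) : xw (sd S χ) = S.σ χ * w23 (dg χ) := by
  have hpos := Block.charDegree_pos χ
  rcases S.sign χ hχ with h | h
  · simp [xw, sd, h]
  · have hpos' : (0 : ℤ) < (dg χ : ℤ) := Int.natCast_pos.2 hpos
    rw [xw, if_neg (by rw [sd, h]; omega), sd, h]
    simp

/-- The relation at the element of order 23: sums and pairing of the exceptional characters. -/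
theorem column_facts (X : Ctx G) (hp : p ≠ 23) :
    ∑ χ ∈ S.Z, xw (sd S χ) = 0 ∧ (X.ψ₁ ∈ S.Z ↔ X.ψ₂ ∈ S.Z) ∧
      (X.ψ₁ ∈ S.Z → X.ψ₂ ∈ S.Z → sd S X.ψ₁ = sd S X.ψ₂) := by
  have hpx : ¬ p ∣ orderOf X.x := fun h => hp
    ((Nat.prime_dvd_prime_iff_eq Fact.out (by norm_num : Nat.Prime 23)).1 (X.order ▸ h))
  have hrel := S.rel X.x hpx
  have hrel2 : ∑ χ ∈ S.Z, (S.σ χ : ℂ) * (2 * (χ : G → ℂ) X.x) = 0 := by
    rw [Finset.sum_congr rfl fun χ _ => mul_left_comm (S.σ χ : ℂ) 2 _, ← Finset.mul_sum, hrel, mul_zero]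
  have hother : ∀ T : Finset (IrrCharacter G), T ⊆ S.Z → X.ψ₁ ∉ T → X.ψ₂ ∉ T →
      ∑ χ ∈ T, (S.σ χ : ℂ) * (2 * (χ : G → ℂ) X.x) = ((∑ χ ∈ T, xw (sd S χ) : ℤ) : ℂ) := by
    intro T hT h1 h2
    rw [Int.cast_sum]
    refine Finset.sum_congr rfl fun χ hχ => ?_
    rw [xw_sd S (hT hχ), Int.cast_mul, X.exc.other χ (fun e' => h1 (e' ▸ hχ)) (fun e' => h2 (e' ▸ hχ))]
  have hone : ∀ a b : IrrCharacter G, a ∈ S.Z → b ∉ S.Z → (∀ m : ℤ, 2 * (a : G → ℂ) X.x ≠ (m : ℂ)) →
      ((a = X.ψ₁ ∧ b = X.ψ₂) ∨ (a = X.ψ₂ ∧ b = X.ψ₁)) → False := by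
    intro a b ha hb hirr hab
    have h := hrel2
    rw [← Finset.add_sum_erase _ _ ha, hother _ (Finset.erase_subset _ _)
      (by rcases hab with ⟨rfl, rfl⟩ | ⟨rfl, rfl⟩ <;> simp [hb]) (by rcases hab with ⟨rfl, rfl⟩ | ⟨rfl, rfl⟩ <;> simp [hb])] at h
    refine hirr (-(S.σ a) * ∑ χ ∈ S.Z.erase a, xw (sd S χ)) ?_
    have hs : (S.σ a : ℂ) * (S.σ a : ℂ) = 1 := by rcases S.sign a ha with h' | h' <;> simp [h']
    generalize ∑ χ ∈ S.Z.erase a, xw (sd S χ) = n at h
    push_cast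
    linear_combination (S.σ a : ℂ) * h - 2 * (a : G → ℂ) X.x * hs
  have hiff : X.ψ₁ ∈ S.Z ↔ X.ψ₂ ∈ S.Z := ⟨fun h1 => by
    by_contra h2; exact hone _ _ h1 h2 X.exc.irr₁ (Or.inl ⟨rfl, rfl⟩), fun h2 => by
    by_contra h1; exact hone _ _ h2 h1 X.exc.irr₂ (Or.inr ⟨rfl, rfl⟩)⟩
  by_cases h1 : X.ψ₁ ∈ S.Z
  swap
  · refine ⟨?_, hiff, fun h => absurd h h1⟩
    have := hother S.Z subset_rfl h1 (fun h => h1 (hiff.2 h))
    rw [hrel2] at this
    exact_mod_cast this.symm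
  have h2 := hiff.1 h1
  set T := (S.Z.erase X.ψ₁).erase X.ψ₂ with hT
  have hm2 : X.ψ₂ ∈ S.Z.erase X.ψ₁ := Finset.mem_erase.2 ⟨X.exc.ne.symm, h2⟩
  have hO := hother T ((Finset.erase_subset _ _).trans (Finset.erase_subset _ _)) (by simp [hT]) (by simp [hT])
  rw [← Finset.add_sum_erase _ _ h1, ← Finset.add_sum_erase _ _ hm2, hO] at hrel2
  have hsum := X.exc.sum
  have hsig : S.σ X.ψ₁ = S.σ X.ψ₂ := by
    by_contra hne
    have hs2 : S.σ X.ψ₂ = -S.σ X.ψ₁ := by
      rcases S.sign _ h1 with a | a <;> rcases S.sign _ h2 with b | b <;> rw [a, b] <;> first | rfl | exact absurd (a.trans b.symm) hne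
    rw [hs2] at hrel2
    generalize ∑ χ ∈ T, xw (sd S χ) = n at hrel2
    push_cast at hrel2
    have hs : (S.σ X.ψ₁ : ℂ) * (S.σ X.ψ₁ : ℂ) = 1 := by rcases S.sign _ h1 with h' | h' <;> simp [h']
    set m : ℤ := 2 * w23 (dg X.ψ₁) - S.σ X.ψ₁ * n with hm
    have h4 : 4 * (X.ψ₁ : G → ℂ) X.x = (m : ℂ) := by
      rw [hm]; push_cast
      linear_combination (S.σ X.ψ₁ : ℂ) * hrel2 + 2 * hsum -
        2 * ((X.ψ₁ : G → ℂ) X.x - (X.ψ₂ : G → ℂ) X.x) * hs
    obtain ⟨k, hk⟩ := Char.exists_int_of_isIntegral_rat (q := (m : ℚ) / 4) (by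
      have e1 : ((((m : ℚ) / 4 : ℚ)) : ℂ) = (X.ψ₁ : G → ℂ) X.x := by push_cast; rw [← h4]; ring
      rw [e1]
      exact X.ψ₁.2.isCharacter.isIntegral X.x)
    have hk' : (m : ℚ) = 4 * (k : ℚ) := by rw [← hk]; ring
    have hk'' : m = 4 * k := by exact_mod_cast hk'
    refine X.exc.irr₁ (2 * k) ?_
    rw [hk''] at h4
    push_cast at h4 ⊢
    linear_combination h4 / 2
  have hsd : sd S X.ψ₁ = sd S X.ψ₂ := by rw [sd, sd, hsig, X.exc.deg]
  refine ⟨?_, hiff, fun _ _ => hsd⟩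
  rw [← Finset.add_sum_erase _ _ h1, ← Finset.add_sum_erase _ _ hm2, hsd, xw_sd S h2]
  rw [hsig] at hrel2
  have hw : w23 (dg X.ψ₁) = w23 (dg X.ψ₂) := by rw [X.exc.deg]
  rw [← hw]
  have : ((S.σ X.ψ₂ * w23 (dg X.ψ₁) + (S.σ X.ψ₂ * w23 (dg X.ψ₁) + ∑ χ ∈ T, xw (sd S χ)) : ℤ) : ℂ) = 0 := by
    push_cast
    push_cast at hrel2
    linear_combination hrel2 - 2 * (S.σ X.ψ₂ : ℂ) * hsum
  exact_mod_cast this

/-- With several exceptional members the representative is not exceptional at 23. -/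
theorem θ_not_exc (X : Ctx G) (hp : p ≠ 23) (ht : 2 ≤ (p - 1) / e) : isExc (dg S.θ) = false := by
  have hpx : ¬ p ∣ orderOf X.x := fun h => hp
    ((Nat.prime_dvd_prime_iff_eq Fact.out (by norm_num : Nat.Prime 23)).1 (X.order ▸ h))
  obtain ⟨θ', hθ', hne⟩ := Finset.exists_mem_ne (s := S.Y) (by rw [S.card_Y]; omega) S.θ
  have hd : dg θ' = dg S.θ := by
    have h := S.agree θ' hθ' 1 (by rw [orderOf_one]; exact (Fact.out : p.Prime).not_dvd_one)
    rw [apply_one_eq_charDegree, apply_one_eq_charDegree] at h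
    exact_mod_cast h
  by_contra h
  rw [Bool.not_eq_false] at h
  have h' : isExc (dg θ') = true := by rw [hd]; exact h
  have hag := S.agree θ' hθ' X.x hpx
  rcases (X.exc.iff _).1 h with e1 | e1 <;> rcases (X.exc.iff _).1 h' with e2 | e2 <;>
    rw [e1, e2] at hag
  exacts [hne (e2.trans e1.symm), X.exc.val_ne hag.symm, X.exc.val_ne hag, hne (e2.trans e1.symm)]

/-- The exceptional members of a list are none or a pair of equal signed degree. -/
theorem excOk_of (X : Ctx G) (hp : p ≠ 23) {L : List (IrrCharacter G)} (hnd : L.Nodup)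
    (hL : ∀ χ ∈ L, χ ∈ S.Z) (hall : ∀ χ ∈ S.Z, isExc (dg χ) = true → χ ∈ L) :
    excOk (L.map (sd S)) = true := by
  obtain ⟨-, hiff, hsd⟩ := column_facts S X hp
  unfold excOk
  rw [List.filter_map]
  set L' := L.filter ((fun x : ℤ => isExc x.natAbs) ∘ sd S) with hL'
  have hnd' : L'.Nodup := hnd.filter _
  have hmem : ∀ χ, χ ∈ L' ↔ χ ∈ S.Z ∧ (χ = X.ψ₁ ∨ χ = X.ψ₂) := by
    intro χ
    simp only [hL', List.mem_filter, Function.comp_apply]
    constructor
    · rintro ⟨h1, h2⟩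
      rw [sd_natAbs S (hL χ h1)] at h2
      exact ⟨hL χ h1, (X.exc.iff χ).1 h2⟩
    · rintro ⟨h1, h2⟩
      have h3 := (X.exc.iff χ).2 h2
      exact ⟨hall χ h1 h3, by rwa [sd_natAbs S h1]⟩
  by_cases h1 : X.ψ₁ ∈ S.Z
  · have h2 := hiff.1 h1
    have hperm : L'.Perm [X.ψ₁, X.ψ₂] := (List.perm_ext_iff_of_nodup hnd' (by simp [X.exc.ne])).2
      fun χ => by
        rw [hmem]
        simp only [List.mem_cons, List.not_mem_nil, or_false]
        exact ⟨And.right, fun h => ⟨by rcases h with rfl | rfl <;> assumption, h⟩⟩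
    have : L'.map (sd S) = [sd S X.ψ₁, sd S X.ψ₁] := by
      refine (List.eq_replicate_iff (n := 2)).2 ⟨by rw [List.length_map, hperm.length_eq]; rfl, ?_⟩
      intro b hb
      obtain ⟨χ, hχ, rfl⟩ := List.mem_map.1 hb
      rcases ((hmem χ).1 hχ).2 with rfl | rfl
      exacts [rfl, (hsd h1 h2).symm]
    rw [this]
    simp
  · have : L' = [] := List.eq_nil_iff_forall_not_mem.2 fun χ hχ => by
      obtain ⟨h, h' | h'⟩ := (hmem χ).1 hχ
      exacts [h1 (h' ▸ h), h1 (hiff.2 (h' ▸ h))]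
    rw [this]
    rfl

theorem mem_sgd {f d : ℕ} {σ : ℤ} (hodd : p % 2 = 1) (hf : f < p) (hσ : σ = 1 ∨ σ = -1)
    (hf0 : 0 < f) (h : σ * (d : ℤ) ≡ (f : ℤ) [ZMOD p]) : σ * (d : ℤ) ∈ sgd p f d := by
  have hp := (Fact.out : p.Prime).pos
  have hdm : ((d % p : ℕ) : ℤ) + (p : ℤ) * ((d / p : ℕ) : ℤ) = (d : ℤ) := by exact_mod_cast Nat.mod_add_div d p
  have hlt : d % p < p := Nat.mod_lt _ hp
  obtain ⟨j, hj⟩ := Int.modEq_iff_dvd.1 h
  rw [sgd]
  rcases hσ with rfl | rfl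
  · have hd : (p : ℤ) ∣ ((d % p : ℕ) : ℤ) - f := ⟨-j - ((d / p : ℕ) : ℤ), by linear_combination hdm - hj⟩
    have h0 := Int.eq_zero_of_dvd_of_natAbs_lt_natAbs hd (by rw [Int.natAbs_natCast]; omega)
    rw [if_pos (by simp; omega)]
    simp
  · have hd : (p : ℤ) ∣ ((d % p : ℕ) : ℤ) - ((p : ℤ) - f) :=
      ⟨j - ((d / p : ℕ) : ℤ) - 1, by linear_combination hdm + hj⟩
    have h0 := Int.eq_zero_of_dvd_of_natAbs_lt_natAbs hd (by rw [Int.natAbs_natCast]; omega)
    rw [if_neg (by simp; omega), if_pos (by simp; omega)]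
    simp

/-- A member gives a candidate. -/
theorem sd_mem_cands (X : Ctx G) (hodd : p % 2 = 1) {χ : IrrCharacter G} (hχ : χ ∈ S.Z) {f dmin M : ℕ}
    {noexc : Bool} (hf : f < p) (hf0 : 0 < f) (hmod : sd S χ ≡ (f : ℤ) [ZMOD p]) (hmin : dmin ≤ dg χ)
    (hM : dg χ ∣ M) (hM' : M ∣ ord24) (hexc : noexc = true → isExc (dg χ) = false) :
    sd S χ ∈ cands p f dmin M noexc := by
  refine List.mem_flatMap.2 ⟨dg χ, mem_dv hM' hM, ?_⟩
  rw [if_pos]
  · exact mem_sgd hodd hf (S.sign χ hχ) hf0 hmod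
  · have hle := X.sq_le χ
    cases noexc <;> simp [X.res χ, hmin, hexc] <;> exact hle

theorem mem_dom {K m : ℕ} (hm : 0 < m) (hK : K ∈ kList) {s u : ℤ} (hbox : inBox K s u = true)
    (hmod : (m : ℤ) ∣ u - s) : u ∈ dom K s m := by
  have hisq := List.all_eq_true.1 kOk_eq K hK
  simp only [Nat.blt, Nat.ble_eq] at hisq
  have hbox' := hbox
  simp only [inBox, Bool.and_eq_true, Nat.blt, Nat.ble_eq] at hbox'
  obtain ⟨⟨h1, h2⟩, -⟩ := hbox'
  have hle : u.natAbs ≤ min (isq (ord24 / K)) s.natAbs := by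
    refine le_min ?_ (by omega)
    by_contra hlt
    have := Nat.mul_le_mul (show isq (ord24 / K) + 1 ≤ u.natAbs by omega)
      (show isq (ord24 / K) + 1 ≤ u.natAbs by omega)
    omega
  set B := min (isq (ord24 / K)) s.natAbs with hB
  have hm' : (0 : ℤ) < m := by exact_mod_cast hm
  obtain ⟨i, hi⟩ : (m : ℤ) ∣ u - s % (m : ℤ) := by
    have := dvd_add hmod (Int.dvd_self_sub_emod (x := s) (m := (m : ℤ)))
    simpa using this
  have hr0 := Int.emod_nonneg s hm'.ne'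
  have hr1 := Int.emod_lt_of_pos s hm'
  have hB' : (m : ℤ) * ((B / m : ℕ) : ℤ) + (m : ℤ) > (B : ℤ) := by
    have h3 := Nat.lt_mul_div_succ B hm
    have h4 : (B : ℤ) < (m : ℤ) * (((B / m : ℕ) : ℤ) + 1) := by exact_mod_cast h3
    linarith
  have hu : (u.natAbs : ℤ) ≤ B := by exact_mod_cast hle
  refine List.mem_filter.2 ⟨List.mem_flatMap.2 ?_, hbox⟩
  clear_value B
  have habs := Int.natAbs_eq u
  clear h1 h2 hisq
  rcases le_or_gt 0 i with h0 | h0
  · refine ⟨i.toNat, List.mem_range.2 ?_, List.mem_cons.2 (Or.inl ?_)⟩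
    · have h5 : (m : ℤ) * i ≤ B := by omega
      have h6 : i < ((B / m : ℕ) : ℤ) + 2 := by nlinarith
      rw [← hB]; omega
    · rw [Int.toNat_of_nonneg h0]; linarith
  · refine ⟨(-i - 1).toNat, List.mem_range.2 ?_, List.mem_cons_of_mem _ (List.mem_singleton.2 ?_)⟩
    · have h5 : (m : ℤ) * (-i) ≤ B + m := by rw [mul_neg]; omega
      have h6 : -i - 1 < ((B / m : ℕ) : ℤ) + 2 := by nlinarith
      rw [← hB]; omega
    · rw [Int.toNat_of_nonneg (by omega)]; linear_combination hi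

section Involution

variable [IsSimpleGroup G] (X : Ctx G) {z : G} (hz : orderOf z = 2)
include X hz

theorem not_cyclic : ¬ IsCyclic G := Small.not_isCyclic_of_card (by rw [X.hcard]; norm_num)

theorem su_inBox {χ : IrrCharacter G} (hχ : χ ∈ S.Z) (hne : χ ≠ Small.one' G) {K : ℕ}
    (hK : K * Nat.card (Subgroup.centralizer ({z} : Set G)) = ord24) :
    inBox K (sd S χ) (su S z χ) = true := by
  have hz2 : z ^ 2 = 1 := hz ▸ pow_orderOf_eq_one z
  have hz1 : z ≠ 1 := fun h => by rw [h, orderOf_one] at hz; omega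
  have hlt := MTwentyTwo.natAbs_intVal_lt (not_cyclic X hz) hne hz2 hz1
  have hCv := MTwentyTwo.sum_intVal_sq (G := G) hz2
  have hle : MTwentyTwo.intVal z χ * MTwentyTwo.intVal z χ ≤
      (Nat.card (Subgroup.centralizer ({z} : Set G)) : ℤ) := by
    rw [← hCv]
    exact Finset.single_le_sum (f := fun χ => MTwentyTwo.intVal z χ * MTwentyTwo.intVal z χ)
      (fun _ _ => mul_self_nonneg _) (Finset.mem_univ χ)
  have hq := MTwentyTwo.qof_dvd_intVal χ hz2 (C := Nat.card (Subgroup.centralizer ({z} : Set G))) rfl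
  have hCpos : 0 < Nat.card (Subgroup.centralizer ({z} : Set G)) := Nat.card_pos
  rw [X.hcard, ← hK, Nat.mul_div_cancel _ hCpos] at hq
  have hsu : (su S z χ).natAbs = (MTwentyTwo.intVal z χ).natAbs := by
    rcases S.sign χ hχ with h | h <;> simp [su, h]
  have hC : ord24 / K = Nat.card (Subgroup.centralizer ({z} : Set G)) := by
    have hK0 : 0 < K := Nat.pos_of_ne_zero fun h => by rw [h, zero_mul] at hK; norm_num at hK
    rw [← hK, Nat.mul_div_cancel_left _ hK0]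
  have hdvd : dg χ ∣ K * (MTwentyTwo.intVal z χ).natAbs := by
    have h1 : dg χ / Nat.gcd (dg χ) K ∣ (MTwentyTwo.intVal z χ).natAbs :=
      Int.natCast_dvd_natCast.1 (Int.dvd_natAbs.2 hq)
    have h2 := Nat.mul_dvd_mul (Nat.gcd_dvd_right (dg χ) K) h1
    rwa [Nat.mul_div_cancel' (Nat.gcd_dvd_left (dg χ) K)] at h2
  simp only [inBox, sd_natAbs S hχ, hsu, hC, Bool.and_eq_true, Nat.blt, Nat.ble_eq, beq_iff_eq]
  refine ⟨⟨hlt, ?_⟩, Nat.mod_eq_zero_of_dvd hdvd⟩
  have : (((MTwentyTwo.intVal z χ).natAbs * (MTwentyTwo.intVal z χ).natAbs : ℕ) : ℤ) ≤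
      ((Nat.card (Subgroup.centralizer ({z} : Set G)) : ℕ) : ℤ) := by push_cast; rw [← abs_mul, abs_of_nonneg (mul_self_nonneg _)]; exact hle
  exact_mod_cast this

theorem su_mod (hp2 : p ≠ 2) (hzC : z ∈ C[(P : Subgroup G)]) {χ : IrrCharacter G} (hχ : χ ∈ S.Z) :
    ((2 * p : ℕ) : ℤ) ∣ su S z χ - sd S χ ∧ (4 : ℤ) ∣ su S z χ - sd S χ := by
  have hz2 : z ^ 2 = 1 := hz ▸ pow_orderOf_eq_one z
  obtain ⟨t, ht⟩ := MTwentyTwo.exists_int_apply χ hz2
  have h1 := two_modEq S hp2 hzC hz hχ ht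
  have h4 := MTwentyTwo.intVal_mod_four (Small.commutator_eq_top (not_cyclic X hz)) χ hz2
  rw [MTwentyTwo.intVal_eq ht] at h4
  have h4' : (4 : ℤ) ∣ t - (dg χ : ℤ) := Int.dvd_of_emod_eq_zero h4
  have e1 : su S z χ - sd S χ = S.σ χ * (t - (dg χ : ℤ)) := by
    rw [su, sd, MTwentyTwo.intVal_eq ht]; ring
  rw [e1]
  exact ⟨dvd_mul_of_dvd_right h1 _, dvd_mul_of_dvd_right h4' _⟩

theorem su_rel (hzp : ¬ p ∣ orderOf z) : ∑ χ ∈ S.Z, su S z χ = 0 := by
  have hz2 : z ^ 2 = 1 := hz ▸ pow_orderOf_eq_one z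
  have h := S.rel z hzp
  have : ((∑ χ ∈ S.Z, su S z χ : ℤ) : ℂ) = 0 := by
    rw [Int.cast_sum, ← h]
    exact Finset.sum_congr rfl fun χ _ => by rw [su, Int.cast_mul, MTwentyTwo.cast_intVal χ hz2]
  exact_mod_cast this

theorem su_sq_le (T : Finset (IrrCharacter G)) (hT : T ⊆ S.Z) {K : ℕ}
    (hK : K * Nat.card (Subgroup.centralizer ({z} : Set G)) = ord24) :
    ∑ χ ∈ T, su S z χ * su S z χ ≤ ((ord24 / K : ℕ) : ℤ) := by
  have hz2 : z ^ 2 = 1 := hz ▸ pow_orderOf_eq_one z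
  have hK0 : 0 < K := Nat.pos_of_ne_zero fun h => by rw [h, zero_mul] at hK; norm_num at hK
  rw [← hK, Nat.mul_div_cancel_left _ hK0, ← MTwentyTwo.sum_intVal_sq hz2,
    Finset.sum_congr rfl (g := fun χ => MTwentyTwo.intVal z χ * MTwentyTwo.intVal z χ) fun χ hχ => by
      rcases S.sign χ (hT hχ) with h | h <;> rw [su, h] <;> ring]
  exact Finset.sum_le_sum_of_subset_of_nonneg (Finset.subset_univ _) fun _ _ _ => mul_self_nonneg _

theorem tSum_eq : tSum S z = ∑ χ ∈ S.Z, ((su S z χ : ℂ) * (su S z χ : ℂ) / (sd S χ : ℂ)) := by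
  have hz2 : z ^ 2 = 1 := hz ▸ pow_orderOf_eq_one z
  refine Finset.sum_congr rfl fun χ hχ => ?_
  rw [su, sd, ← MTwentyTwo.cast_intVal χ hz2, MEleven.apply_one]
  have hd : (dg χ : ℂ) ≠ 0 := Nat.cast_ne_zero.2 (Block.charDegree_pos χ).ne'
  rcases S.sign χ hχ with h | h <;> rw [h] <;> push_cast <;> field_simp

end Involution

end Cfsg.Lib.MTwentyFour.Eleven
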