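import Cfsg.Agent.Lib.MTwentyFour.Eleven.Pairs

/-!
The principal family at 5 of an element of the normalizer of a Sylow 11-subgroup, tied to the
principal family at 11.
-/

set_option autoImplicit false
set_option linter.style.haveILetI false
set_option linter.unusedSectionVars false

namespace Cfsg.Lib.MTwentyFour.Eleven

open Cfsg Cfsg.Lib Cfsg.Lib.Block
open Cfsg.Lib.MTwentyFour.Search (isExc w23 ord24)
open scoped ComplexConjugate Classical

universe u

noncomputable local instance (priority := high) fintypeSubgroupFive {A : Type u}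
    [Group A] [Fintype A] (H : Subgroup A) : Fintype H := Fintype.ofFinite H

local notation "C[" P "]" => Subgroup.centralizer (SetLike.coe P)

variable {G : Type u} [Group G] [Fintype G] [IsSimpleGroup G] [Fact (Nat.Prime 11)] [Fact (Nat.Prime 5)]
  {P : Sylow 11 G} (X : Ctx G) {c : ℕ}

include X in
/-- The Sylow 5-subgroup of the element commuting with the involution. -/
theorem five_setup (hC : Nat.card C[(P : Subgroup G)] = 11 * c) (h5 : ¬ 5 ∣ c) (D : InvData P) :
    ∃ (Q : Sylow 5 G) (q : ℕ) (_ : Small.Shape Q 4),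
      Nat.card C[(Q : Subgroup G)] = 5 * q ∧ D.b ∈ (Q : Subgroup G) ∧ D.b ≠ 1 ∧
        D.z ∈ C[(Q : Subgroup G)] ∧ 2 ∣ q ∧ q ∈ qList := by
  have hd : 5 ∣ Nat.card G := X.hcard ▸ by norm_num
  have hsq : ¬ 5 * 5 ∣ Nat.card G := X.hcard ▸ by norm_num
  obtain ⟨Q, hQ, hbQ, hb1⟩ := exists_sylow hd hsq D.hb
  have hzQ : D.z ∈ C[(Q : Subgroup G)] := by
    rw [← centralizer_singleton_eq hQ hbQ hb1]
    exact Subgroup.mem_centralizer_singleton_iff.2 D.hbz.eq.symm
  obtain ⟨q, hq⟩ : 5 ∣ Nat.card C[(Q : Subgroup G)] := by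
    have := Subgroup.card_dvd_of_le (le_centralizer_self hQ)
    rwa [hQ] at this
  have h2q : 2 ∣ q := by
    have := Subgroup.orderOf_dvd_natCard _ hzQ
    rw [D.hz, hq] at this
    exact Nat.Coprime.dvd_of_dvd_mul_left (by norm_num) this
  have h23q : ¬ 23 ∣ q := fun h => by
    haveI : Fact (Nat.Prime 23) := ⟨by norm_num⟩
    obtain ⟨⟨u, hu⟩, huo⟩ := exists_prime_orderOf_dvd_card' (G := C[(Q : Subgroup G)]) 23
      (hq ▸ dvd_mul_of_dvd_right h 5)
    rw [Subgroup.orderOf_mk] at huo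
    have := X.cent u D.b huo (Subgroup.mem_centralizer_iff.1 hu D.b hbQ).symm
    rw [D.hb] at this
    norm_num at this
  have h11q : ¬ 11 ∣ q := fun h => by
    obtain ⟨⟨u, hu⟩, huo⟩ := exists_prime_orderOf_dvd_card' (G := C[(Q : Subgroup G)]) 11
      (hq ▸ dvd_mul_of_dvd_right h 5)
    rw [Subgroup.orderOf_mk] at huo
    obtain ⟨P', hP', huP, hu1⟩ := exists_sylow (q := 11) (X.hcard ▸ by norm_num) (X.hcard ▸ by norm_num) huo
    obtain ⟨g, hg⟩ := MulAction.exists_smul_eq G P P'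
    have hbP : g⁻¹ * D.b * g ∈ C[(P : Subgroup G)] := by
      refine Subgroup.mem_centralizer_iff.2 fun x hx => ?_
      have hx' : g * x * g⁻¹ ∈ (P' : Subgroup G) := by
        rw [← hg, Sylow.coe_subgroup_smul]
        exact Subgroup.smul_mem_pointwise_smul x (MulAut.conj g) _ hx
      have hbC : D.b ∈ C[(P' : Subgroup G)] := by
        rw [← centralizer_singleton_eq hP' huP hu1]
        exact Subgroup.mem_centralizer_singleton_iff.2 (Subgroup.mem_centralizer_iff.1 hu D.b hbQ)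
      have := Subgroup.mem_centralizer_iff.1 hbC _ hx'
      calc x * (g⁻¹ * D.b * g) = g⁻¹ * (g * x * g⁻¹ * D.b) * g := by group
        _ = g⁻¹ * (D.b * (g * x * g⁻¹)) * g := by rw [this]
        _ = g⁻¹ * D.b * g * x := by group
    have h1 := Subgroup.orderOf_dvd_natCard _ hbP
    rw [hC, show g⁻¹ * D.b * g = g⁻¹ * D.b * g⁻¹⁻¹ by rw [inv_inv],
      show orderOf (g⁻¹ * D.b * g⁻¹⁻¹) = orderOf D.b from (MulAut.conj g⁻¹).orderOf_eq D.b, D.hb] at h1
    exact h5 (Nat.Coprime.dvd_of_dvd_mul_left (by norm_num) h1)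
  obtain ⟨hed, he1, -⟩ := Order175560.relIndex_centralizer hd hsq (by rw [X.hcard]; norm_num) Q
  set e := (C[(Q : Subgroup G)]).relIndex (Subgroup.normalizer ((Q : Subgroup G) : Set G)) with he
  obtain ⟨S⟩ := Small.exists_shape (p := 5) (by norm_num) Q hQ he.symm he1
  have hn : Nat.card (Sylow 5 G) * (e * q) = 48964608 := by
    have h := Small.card_normalizer_mul Q
    rw [card_normalizer hQ hq he.symm, X.hcard] at h
    simp only [ord24] at h
    nlinarith
  have he24 : e = 2 ∨ e = 4 := by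
    have := Nat.le_of_dvd (by norm_num) hed
    interval_cases e <;> norm_num at hed <;> norm_num
  have hq1 : q ≠ 1 := by rintro rfl; norm_num at h2q
  rcases he24 with he' | he' <;> clear_value e <;> subst he'
  · exfalso
    obtain ⟨m, hm⟩ : 5 * q ∣ ord24 := X.hcard ▸ hq ▸ Subgroup.card_subgroup_dvd_card _
    obtain ⟨q', rfl⟩ := h2q
    refine no_two X S (Or.inl rfl) (M := ord24 / 10) (qs := (dv (ord24 / 10)).filter fun q => q % 11 != 0)
      hq hq1 (List.mem_filter.2 ⟨mem_dv (by norm_num) ⟨Nat.card (Sylow 5 G), ?_⟩, ?_⟩) (by norm_num)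
      (fun χ hχ => (deg_dvd_mul S hq hχ (X.hcard.trans hm)).trans ⟨q', ?_⟩) hsq pair_five
    · rw [show ord24 / 10 = 24482304 by norm_num]; nlinarith
    · simp only [bne_iff_ne]; exact fun h => h11q (Nat.dvd_of_mod_eq_zero h)
    · rw [show ord24 / 10 = 24482304 by norm_num]; simp only [ord24] at hm; nlinarith
  refine ⟨Q, q, S, hq, hbQ, hb1, hzQ, h2q, mem_dl _ (fun r hr => ?_) ?_⟩
  · simp only [List.mem_cons, List.not_mem_nil, or_false] at hr
    rcases hr with rfl | rfl | rfl <;> norm_num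
  · have h : q ∣ 12241152 := ⟨Nat.card (Sylow 5 G), by linarith⟩
    rw [show 12241152 = 48384 * (11 * 23) by norm_num] at h
    refine ((Nat.Coprime.mul_right ?_ ?_).dvd_of_dvd_mul_right h).trans (dvd_of_eq (by norm_num))
    · exact Nat.Coprime.symm ((Nat.Prime.coprime_iff_not_dvd (by norm_num)).2 h11q)
    · exact Nat.Coprime.symm ((Nat.Prime.coprime_iff_not_dvd (by norm_num)).2 h23q)

/-- A member of the family at 5 in the list of possible members. -/
theorem val_full {p : ℕ} [Fact p.Prime] {Q : Sylow p G} {e q : ℕ} (S : Small.Shape Q e) (he : e + 1 = p)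
    (hC : Nat.card C[(Q : Subgroup G)] = p * q) {χ : IrrCharacter G} (hχ : χ ∈ S.Z) {h : G}
    (hh : h ∈ sing Q) : (χ : G → ℂ) h = (S.σ χ : ℂ) := by
  rcases S.mem_Z.1 hχ with rfl | hX
  swap
  · exact val_sing S.card_P S hC hX hh
  have hY : S.Y = {S.θ} := by
    refine Finset.eq_singleton_iff_unique_mem.2 ⟨S.θ_mem, fun w hw => ?_⟩
    exact Finset.card_le_one.1 (le_of_eq (show S.Y.card = 1 by
      rw [S.card_Y, show p - 1 = e by omega, Nat.div_self S.e_pos])) w hw _ S.θ_mem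
  have := sum_Y_sing S.card_P S hC hh
  rwa [hY, Finset.sum_singleton] at this

theorem sSum_one {p : ℕ} [Fact p.Prime] {Q : Sylow p G} {q : ℕ} (hQ : Nat.card (Q : Subgroup G) = p)
    (hC : Nat.card C[(Q : Subgroup G)] = p * q) :
    sSum Q (Small.one' G) = (((p - 1) * q : ℕ) : ℂ) := by
  rw [sSum, Finset.sum_congr rfl fun h _ => Small.one'_apply h, Finset.sum_const, card_sing hQ,
    card_regs hQ hC, nsmul_eq_mul, mul_one]

variable {e : ℕ} (S : Small.Shape P e) (hC : Nat.card C[(P : Subgroup G)] = 11 * c) (D : InvData P)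
  {Q : Sylow 5 G} {q : ℕ} (S5 : Small.Shape Q 4)
  (hQC : Nat.card C[(Q : Subgroup G)] = 5 * q)

include hC in
/-- With a cofactor 2, the value at the involution of a character outside the family at 11. -/
theorem su_outside_two (hP : Nat.card (P : Subgroup G) = 11) (hc : c = 2) {χ : IrrCharacter G}
    (h0 : sSum P χ = 0) : (22 : ℤ) ∣ (dg χ : ℤ) + MTwentyTwo.intVal D.z χ := by
  subst hc
  have hz1 : D.z ≠ 1 := fun h => by have := D.hz; rw [h, orderOf_one] at this; omega
  have hregs : regs P = {1, D.z} := by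
    refine (Finset.eq_of_subset_of_card_le ?_ ?_).symm
    · intro g hg
      simp only [Finset.mem_insert, Finset.mem_singleton] at hg
      rcases hg with rfl | rfl
      · exact mem_regs.2 ⟨one_mem _, by rw [orderOf_one]; norm_num⟩
      · exact mem_regs.2 ⟨D.hzC, by rw [D.hz]; norm_num⟩
    · rw [card_regs hP hC, Finset.card_pair hz1.symm]
  obtain ⟨n, hn⟩ := MEleven.exists_nat_sum χ C[(P : Subgroup G)]
  rw [sum_cent hP (fun g => (χ : G → ℂ) g)] at hn
  change sSum P χ + _ = _ at hn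
  rw [h0, zero_add, hregs, Finset.sum_pair hz1.symm, MEleven.apply_one,
    ← MTwentyTwo.cast_intVal χ (D.hz ▸ pow_orderOf_eq_one D.z), hC] at hn
  have hn' : (MEleven.deg χ : ℤ) + MTwentyTwo.intVal D.z χ = ((11 * 2 * n : ℕ) : ℤ) := by exact_mod_cast hn
  exact ⟨n, by rw [show (dg χ : ℤ) = (MEleven.deg χ : ℤ) from rfl, hn']; push_cast; ring⟩

include hC S5 hQC in
/-- With a cofactor 12 centralized by the element of order 5, no member of degree 24 outside the family at 11. -/
theorem deg_ne_24 (hP : Nat.card (P : Subgroup G) = 11) (hc : c = 12) (hbQ : D.b ∈ (Q : Subgroup G))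
    (hb1 : D.b ≠ 1) (hW : ∀ w ∈ regs P, Commute D.b w) {χ : IrrCharacter G} (hχ : χ ∈ S5.Z)
    (h0 : sSum P χ = 0) : dg χ ≠ 24 := by
  intro hd
  subst hc
  obtain ⟨W, hWc, hWm⟩ := exists_regular_subgroup hP hC (by norm_num)
  obtain ⟨n, hn⟩ := MEleven.exists_nat_sum χ C[(P : Subgroup G)]
  rw [sum_cent hP (fun g => (χ : G → ℂ) g)] at hn
  change sSum P χ + _ = _ at hn
  rw [h0, zero_add, hC] at hn
  obtain ⟨n', hn'⟩ := exists_nat_sum_commute χ D.b W fun w hw => hW w ((hWm w).1 hw)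
  have hsumW : ∑ w : W, (χ : G → ℂ) w = ∑ w ∈ regs P, (χ : G → ℂ) w :=
    (Finset.sum_subtype _ (fun x => (hWm x).symm) (fun x => (χ : G → ℂ) x)).symm
  have hQ := S5.card_P
  have hval : ∀ u ∈ Finset.univ.erase (1 : Subgroup.zpowers D.b), ∀ w : W,
      (χ : G → ℂ) ((u : G) * w) = (S5.σ χ : ℂ) := by
    intro u hu w
    refine val_full S5 (by norm_num) hQC hχ (mul_mem_sing hQ (mem_pnt.2
      ⟨(Subgroup.zpowers_le.2 hbQ) u.2, fun h => Finset.ne_of_mem_erase hu (Subtype.ext h)⟩)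
      (mem_regs.2 ⟨?_, fun h => ?_⟩))
    · rw [← centralizer_singleton_eq hQ hbQ hb1]
      exact Subgroup.mem_centralizer_singleton_iff.2 (hW w ((hWm w).1 w.2)).eq.symm
    · have := h.trans (Subgroup.orderOf_dvd_natCard _ w.2)
      rw [hWc] at this
      norm_num at this
  rw [← Finset.add_sum_erase _ _ (Finset.mem_univ (1 : Subgroup.zpowers D.b)),
    Finset.sum_congr rfl fun u hu => Finset.sum_congr rfl fun w _ => hval u hu w] at hn'
  simp only [OneMemClass.coe_one, one_mul, Finset.sum_const, nsmul_eq_mul, card_erase_one,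
    Finset.card_univ, ← Nat.card_eq_fintype_card, hWc, D.hb, hsumW, hn] at hn'
  have h1 : ((11 * 12 * n : ℕ) : ℤ) + ((5 - 1 : ℕ) : ℤ) * ((12 : ℤ) * S5.σ χ) = ((5 * 12 * n' : ℕ) : ℤ) := by
    exact_mod_cast hn'
  push_cast at h1
  have hbound : ((11 * 12 * n : ℕ) : ℝ) ≤ 12 * 24 := by
    have h := norm_sum_le (regs P) (fun w => (χ : G → ℂ) w)
    rw [hn, Complex.norm_natCast] at h
    refine h.trans ?_
    refine (Finset.sum_le_sum fun w _ => norm_le_deg χ w).trans ?_
    rw [Finset.sum_const, card_regs hP hC, show MEleven.deg χ = 24 from hd, nsmul_eq_mul]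
    norm_num
  have hn2 : n ≤ 2 := by
    have : (11 * 12 * n : ℕ) ≤ 12 * 24 := by exact_mod_cast hbound
    omega
  have hcg := S5.cong_all (by norm_num) hχ
  rw [show charDegree (χ : G → ℂ) = 24 from hd] at hcg
  unfold Int.ModEq at hcg
  rcases S5.sign χ hχ with h | h <;> rw [h] at hcg h1 <;> omega

/-- The weight of a character in the family at 11. -/
noncomputable def wgt (χ : IrrCharacter G) : ℕ × ℤ :=
  if χ ∈ S.X then (1, S.σ χ * (if e = 5 then 2 else 1))
  else if χ ∈ S.Y then (if e = 5 then 2 else 1, S.σ S.θ) else (0, 0)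

include hC S in
theorem sSum_wgt (he : e = 5 ∨ e = 10) (χ : IrrCharacter G) :
    sSum P χ = (((if e = 5 then 5 else 10) * c : ℕ) : ℂ) * ((wgt S χ).2 : ℂ) := by
  have hP := S.card_P
  by_cases h1 : χ ∈ S.X
  · rw [sSum_X hP S hC h1, wgt, if_pos h1]
    rcases he with rfl | rfl <;> norm_num; ring
  by_cases h3 : χ ∈ S.Y
  · rw [(sSum_props hP S hC).1 χ h3, wgt, if_neg h1, if_pos h3]
    rcases he with rfl | rfl <;> simp
  · rw [(sSum_props hP S hC).2 χ h1 h3, wgt, if_neg h1, if_neg h3]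
    simp

include X S in
/-- The option of a member in the list. -/
theorem wgt_mem_opts (he : e = 5 ∨ e = 10) (hc1 : c ≠ 1) (hC : Nat.card C[(P : Subgroup G)] = 11 * c)
    {χ : IrrCharacter G} (hχ : χ ∈ S5.Z) (hne : χ ≠ Small.one' G) :
    ((wgt S χ).1, S5.σ χ * (wgt S χ).2) ∈ opts e (ord24 / (11 * c)) (sd S5 χ) := by
  have hpos := Block.charDegree_pos χ
  have hsq : ¬ 11 * 11 ∣ Nat.card G := X.hcard ▸ by norm_num
  have habs := sd_natAbs S5 hχ
  have hdM : ∀ ψ ∈ S.Z, dg ψ ∣ ord24 / (11 * c) := fun ψ hψ => deg_dvd_mul S hC hψ (by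
    rw [X.hcard, Nat.mul_div_cancel' (X.hcard ▸ hC ▸ Subgroup.card_subgroup_dvd_card _)])
  by_cases hin : χ ∈ S.X ∨ χ ∈ S.Y
  swap
  · push Not at hin
    rw [wgt, if_neg hin.1, if_neg hin.2]
    simp [opts]
  have hsign : (if (0 : ℤ) ≤ sd S5 χ then (1 : ℤ) else -1) = S5.σ χ := by
    have : (0 : ℤ) < (dg χ : ℤ) := Int.natCast_pos.2 hpos
    rcases S5.sign χ hχ with h | h <;> rw [sd, h] <;> split_ifs <;> omega
  have hsign' : (if (0 : ℤ) ≤ sd S5 χ then (-1 : ℤ) else 1) = -S5.σ χ := by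
    rw [← hsign]; split_ifs <;> rfl
  obtain ⟨ψ, hψ, hdψ, hne'⟩ : ∃ ψ ∈ S.Z, dg ψ = dg χ ∧ ψ ≠ Small.one' G := by
    rcases hin with h | h
    · exact ⟨χ, S.mem_Z.2 (Or.inr h), rfl, hne⟩
    · refine ⟨S.θ, S.mem_Z.2 (Or.inl rfl), (deg_Y S h).symm, fun e1 => hne ?_⟩
      have hpe : e + 1 < 11 ∨ e = 10 := by rcases he with rfl | rfl <;> omega
      rcases hpe with hpe | hpe
      · exact absurd e1 (S.θ_ne_one hpe)
      · subst hpe
        have := Finset.card_le_one.1 (le_of_eq (show S.Y.card = 1 by rw [S.card_Y])) χ h _ S.θ_mem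
        rw [this, e1]
  have h22 : 22 ≤ dg χ := hdψ ▸ deg_ge S X hsq hC hc1 hψ hne'
  have hM : ord24 / (11 * c) % dg χ = 0 := hdψ ▸ Nat.mod_eq_zero_of_dvd (hdM ψ hψ)
  rw [opts, List.mem_cons]
  right
  rw [if_pos (by simp [habs, h22, hM])]
  rcases hin with h | h
  · have hσ := S.sign χ (S.mem_Z.2 (Or.inr h))
    have hcg := S.cong χ h
    unfold Int.ModEq at hcg
    rw [wgt, if_pos h, habs, hsign, hsign']
    rcases hσ with hσ | hσ <;> rw [hσ] at hcg ⊢
    · have : dg χ % 11 = 1 := by simp only [dg]; omega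
      rcases he with rfl | rfl <;> simp [this]
    · have : dg χ % 11 = 10 := by simp only [dg]; omega
      rcases he with rfl | rfl <;> simp [this]
  · have hX : χ ∉ S.X := fun h' => Finset.disjoint_left.1 S.disj h' h
    have hσ := S.sign S.θ (S.mem_Z.2 (Or.inl rfl))
    have hcg := S.congθ
    unfold Int.ModEq at hcg
    have hd : charDegree (S.θ : G → ℂ) = dg χ := (deg_Y S h).symm
    rw [hd] at hcg
    rw [wgt, if_neg hX, if_pos h, habs, hsign, hsign']
    rcases he with rfl | rfl <;> rcases hσ with hσ | hσ <;> rw [hσ] at hcg ⊢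
    · have : dg χ % 11 = 6 := by omega
      simp [this]
    · have : dg χ % 11 = 5 := by omega
      simp [this]
    · have : dg χ % 11 = 1 := by omega
      simp [this]
    · have : dg χ % 11 = 10 := by omega
      simp [this]

include X S hC D S5 hQC in
/-- The possible values of a member. -/
theorem su_mem_dom5 (he : e = 5 ∨ e = 10) (hcase : e = 5 → c = 2) (hzQ : D.z ∈ C[(Q : Subgroup G)])
    {K : ℕ} (hK : K ∈ kList) (hKC : K * Nat.card (Subgroup.centralizer ({D.z} : Set G)) = ord24)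
    {χ : IrrCharacter G} (hχ : χ ∈ S5.Z) (hne : χ ≠ Small.one' G) :
    su S5 D.z χ ∈ dom5 e K (sd S5 χ) ((wgt S χ).1, S5.σ χ * (wgt S χ).2) := by
  have hbox := su_inBox S5 X D.hz hχ hne hKC
  obtain ⟨h10, h4⟩ := su_mod S5 X D.hz (by norm_num) hzQ hχ
  push_cast at h10
  have h20 : ((20 : ℕ) : ℤ) ∣ su S5 D.z χ - sd S5 χ := by push_cast; omega
  unfold dom5
  by_cases hk : (wgt S χ).1 = 0
  · rw [if_pos (by simp [hk])]
    have hX : χ ∉ S.X := fun h => by simp [wgt, h] at hk
    have hY : χ ∉ S.Y := fun h => by rcases he with rfl | rfl <;> simp [wgt, hX, h] at hk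
    split_ifs with h5
    · refine List.mem_filter.2 ⟨mem_dom (by norm_num) hK hbox h20, ?_⟩
      have := su_outside_two hC D S.card_P (hcase (by simpa using h5))
        ((sSum_props S.card_P S hC).2 χ hX hY)
      have : (22 : ℤ) ∣ su S5 D.z χ + sd S5 χ := by
        rw [su, sd, ← mul_add]
        exact dvd_mul_of_dvd_right (by rwa [add_comm]) _
      simpa using Int.emod_eq_zero_of_dvd this
    · exact mem_dom (by norm_num) hK hbox h20
  · rw [if_neg (by simp [hk])]
    refine mem_dom (by norm_num) hK hbox ?_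
    obtain ⟨ψ, hψ, hdψ, hvψ⟩ : ∃ ψ ∈ S.Z, dg ψ = dg χ ∧
        MTwentyTwo.intVal D.z ψ = MTwentyTwo.intVal D.z χ := by
      by_cases hX : χ ∈ S.X
      · exact ⟨χ, S.mem_Z.2 (Or.inr hX), rfl, rfl⟩
      · have hY : χ ∈ S.Y := by
          by_contra hY
          simp [wgt, hX, hY] at hk
        refine ⟨S.θ, S.mem_Z.2 (Or.inl rfl), (deg_Y S hY).symm, MTwentyTwo.intVal_eq ?_⟩
        rw [← S.agree χ hY D.z (MTwentyTwo.not_dvd_orderOf (G := G) Fact.out (by norm_num) D.hz),
          MTwentyTwo.cast_intVal χ (D.hz ▸ pow_orderOf_eq_one D.z)]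
    obtain ⟨t, ht⟩ := MTwentyTwo.exists_int_apply ψ (D.hz ▸ pow_orderOf_eq_one D.z)
    have h22 := two_modEq S (by norm_num) D.hzC D.hz hψ ht
    rw [MTwentyTwo.intVal_eq ht] at hvψ
    rw [show (MEleven.deg ψ : ℤ) = (dg χ : ℤ) by exact_mod_cast hdψ, hvψ] at h22
    have h22' : (22 : ℤ) ∣ su S5 D.z χ - sd S5 χ := by
      rw [su, sd, ← mul_sub]; exact dvd_mul_of_dvd_right h22 _
    push_cast at h20 ⊢
    omega

include hC S5 hQC in
/-- The two families meet. -/
theorem cap_relation (h5 : ¬ 5 ∣ c) :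
    ∑ χ ∈ S5.Z, (S5.σ χ : ℂ) * sSum P χ = 0 := by
  simp only [sSum, Finset.mul_sum]
  rw [Finset.sum_comm]
  refine Finset.sum_eq_zero fun h hh => S5.rel h fun hd => h5 ?_
  have h1 := hd.trans (Subgroup.orderOf_dvd_natCard _ (mem_sing.1 hh).1)
  rw [hC] at h1
  exact Nat.Coprime.dvd_of_dvd_mul_left (by norm_num) h1

end Cfsg.Lib.MTwentyFour.Eleven
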