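import Cfsg.Agent.Lib.MTwentyFour.Eleven.Family

/-!
An involution of the centralizer of a Sylow subgroup of order 11 commuting with an element of order 5
of the normalizer: its class and the values of the members of the principal family at it.
-/

set_option autoImplicit false
set_option linter.style.haveILetI false
set_option linter.unusedSectionVars false

namespace Cfsg.Lib.MTwentyFour.Eleven

open Cfsg Cfsg.Lib Cfsg.Lib.Block
open Cfsg.Lib.MTwentyFour.Search (ord24)
open scoped ComplexConjugate Classical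

universe u

noncomputable local instance (priority := high) fintypeSubgroupInv {A : Type u}
    [Group A] [Fintype A] (H : Subgroup A) : Fintype H := Fintype.ofFinite H

local notation "C[" P "]" => Subgroup.centralizer (SetLike.coe P)

variable {G : Type u} [Group G] [Fintype G]

theorem norm_le_deg (χ : IrrCharacter G) (g : G) : ‖(χ : G → ℂ) g‖ ≤ (MEleven.deg χ : ℝ) := by
  have h := χ.2.isCharacter.norm_le g
  rwa [MEleven.apply_one, Complex.natCast_re] at h

/-- The Sylow subgroup of order `q` generated by an element of order `q`. -/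
theorem exists_sylow {q : ℕ} [Fact q.Prime] (h1 : q ∣ Nat.card G) (h2 : ¬ q * q ∣ Nat.card G) {b : G}
    (hb : orderOf b = q) :
    ∃ Q : Sylow q G, Nat.card (Q : Subgroup G) = q ∧ b ∈ (Q : Subgroup G) ∧ b ≠ 1 := by
  obtain ⟨Q, hQ⟩ := (IsPGroup.of_card (G := ↥(Subgroup.zpowers b)) (p := q) (n := 1)
    (by rw [Nat.card_zpowers, hb, pow_one])).exists_le_sylow
  exact ⟨Q, Order175560.sylow_card_eq h1 h2 Q, hQ (Subgroup.mem_zpowers b),
    fun h => (Fact.out : q.Prime).ne_one (by rw [← hb, h, orderOf_one])⟩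

/-- An involution of the centralizer with an element of order 5 of the normalizer commuting with it. -/
structure InvData [Fact (Nat.Prime 11)] (P : Sylow 11 G) where
  /-- the involution -/
  z : G
  /-- the element of order 5 -/
  b : G
  hz : orderOf z = 2
  hzC : z ∈ C[(P : Subgroup G)]
  hb : orderOf b = 5
  hbN : b ∈ Subgroup.normalizer ((P : Subgroup G) : Set G)
  hbz : Commute b z

variable [Fact (Nat.Prime 11)] {P : Sylow 11 G} (X : Ctx G) {c e : ℕ} (S : Small.Shape P e)
  (hC : Nat.card C[(P : Subgroup G)] = 11 * c) (D : InvData P)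

include hC in
theorem InvData.b_not_mem (h5 : ¬ 5 ∣ c) : D.b ∉ C[(P : Subgroup G)] := by
  intro h
  have h1 := Subgroup.orderOf_dvd_natCard _ h
  rw [D.hb, hC] at h1
  exact h5 ((Nat.Coprime.dvd_of_dvd_mul_left (by norm_num) h1))

include X S in
theorem class_mem_kList :
    Nat.card G / Nat.card (Subgroup.centralizer ({D.z} : Set G)) ∈ kList ∧
      (Nat.card G / Nat.card (Subgroup.centralizer ({D.z} : Set G))) *
        Nat.card (Subgroup.centralizer ({D.z} : Set G)) = ord24 := by
  set H := Subgroup.centralizer ({D.z} : Set G) with hH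
  have hP := S.card_P
  have h11 : 11 ∣ Nat.card H := by
    refine hP ▸ Subgroup.card_dvd_of_le fun x hx => ?_
    exact Subgroup.mem_centralizer_singleton_iff.2 (Subgroup.mem_centralizer_iff.1 D.hzC x hx)
  have h5 : 5 ∣ Nat.card H :=
    D.hb ▸ Subgroup.orderOf_dvd_natCard _ (Subgroup.mem_centralizer_singleton_iff.2 D.hbz.eq)
  have h2 : 2 ∣ Nat.card H :=
    D.hz ▸ Subgroup.orderOf_dvd_natCard _ (Subgroup.mem_centralizer_singleton_iff.2 rfl)
  have h110 : 110 ∣ Nat.card H := by
    have := Nat.Coprime.mul_dvd_of_dvd_of_dvd (show Nat.Coprime 2 55 by norm_num) h2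
      (Nat.Coprime.mul_dvd_of_dvd_of_dvd (show Nat.Coprime 5 11 by norm_num) h5 h11)
    exact this
  have h23 : ¬ 23 ∣ Nat.card H := fun h => by
    haveI : Fact (Nat.Prime 23) := ⟨by norm_num⟩
    obtain ⟨⟨u, hu⟩, huo⟩ := exists_prime_orderOf_dvd_card' (G := H) 23 h
    rw [Subgroup.orderOf_mk] at huo
    have := X.cent u D.z huo (Subgroup.mem_centralizer_singleton_iff.1 hu)
    rw [D.hz] at this
    norm_num at this
  have hdvd : Nat.card H ∣ ord24 := X.hcard ▸ Subgroup.card_subgroup_dvd_card H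
  obtain ⟨K, hK⟩ := hdvd
  have hKe : Nat.card G / Nat.card H = K := by rw [X.hcard, hK, Nat.mul_div_cancel_left _ Nat.card_pos]
  rw [hKe]
  refine ⟨?_, by rw [mul_comm, ← hK]⟩
  obtain ⟨h', hh'⟩ := h110
  rw [hh', show ord24 = 110 * (23 * 96768) by norm_num, mul_assoc] at hK
  have hK' := Nat.eq_of_mul_eq_mul_left (by norm_num) hK
  refine mem_kList ?_ (Dvd.intro_left _ hK'.symm)
  rcases (Nat.Prime.dvd_mul (by norm_num)).1 (hK' ▸ dvd_mul_right 23 96768) with h | h
  · exact absurd (hh' ▸ dvd_mul_of_dvd_right h 110) h23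
  · exact h

include S hC in
/-- The count of Sylow subgroups in the centralizer of the involution, for an automizer of order 5. -/
theorem centralizer_count (he : e = 5) (h5 : ¬ 5 ∣ c) :
    ∃ w n, 2 ∣ w ∧ w ∣ c ∧ n % 11 = 1 ∧
      Nat.card (Subgroup.centralizer ({D.z} : Set G)) = 55 * w * n := by
  subst he
  set H := Subgroup.centralizer ({D.z} : Set G) with hH
  set N := Subgroup.normalizer ((P : Subgroup G) : Set G) with hN
  have hP := S.card_P
  have hPH : (P : Subgroup G) ≤ H := fun x hx =>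
    Subgroup.mem_centralizer_singleton_iff.2 (Subgroup.mem_centralizer_iff.1 D.hzC x hx)
  set CP := C[(P : Subgroup G)] with hCP
  obtain ⟨w, hw⟩ : 11 ∣ Nat.card (CP ⊓ H : Subgroup G) :=
    hP ▸ Subgroup.card_dvd_of_le (le_inf (le_centralizer_self hP) hPH)
  have hwc : w ∣ c := by
    have := Subgroup.card_dvd_of_le (inf_le_left : CP ⊓ H ≤ CP)
    rw [hw, hC] at this
    exact Nat.dvd_of_mul_dvd_mul_left (by norm_num) this
  have h2w : 2 ∣ w := by
    have : orderOf D.z ∣ Nat.card (CP ⊓ H : Subgroup G) :=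
      Subgroup.orderOf_dvd_natCard _ ⟨D.hzC, Subgroup.mem_centralizer_singleton_iff.2 rfl⟩
    rw [D.hz, hw] at this
    exact Nat.Coprime.dvd_of_dvd_mul_left (by norm_num) this
  have hbNH : D.b ∈ N ⊓ H := ⟨D.hbN, Subgroup.mem_centralizer_singleton_iff.2 D.hbz.eq⟩
  have hCN : CP ≤ N := Subgroup.centralizer_le_normalizer _
  have hrel : CP.relIndex (N ⊓ H) = 5 := by
    set C' := CP.subgroupOf N with hC'
    haveI : C'.Normal := by
      rw [hC', hCP, ← (P : Subgroup G).normalizerMonoidHom_ker]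
      exact MonoidHom.normal_ker _
    have h1 : C'.relIndex ((N ⊓ H).subgroupOf N) ∣ C'.index := Subgroup.relIndex_dvd_index_of_normal _ _
    rw [hC', Subgroup.relIndex_subgroupOf inf_le_left, show (CP.subgroupOf N).index = 5 from S.relIndex_eq] at h1
    rcases (Nat.dvd_prime (by norm_num)).1 h1 with h | h
    · exact absurd (Subgroup.relIndex_eq_one.1 h hbNH) (D.b_not_mem hC h5)
    · exact h
  have hNH : Nat.card (N ⊓ H : Subgroup G) = 55 * w := by
    have e1 : CP ⊓ (N ⊓ H) = CP ⊓ H := by rw [← inf_assoc, inf_eq_left.2 hCN]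
    have h := Subgroup.card_mul_index (CP.subgroupOf (N ⊓ H))
    rw [show (CP.subgroupOf (N ⊓ H)).index = 5 from hrel, ← Subgroup.inf_subgroupOf_right,
      Nat.card_congr (Subgroup.subgroupOfEquivOfLe inf_le_right).toEquiv, e1, hw] at h
    omega
  set Q : Sylow 11 H := P.subtype hPH with hQ
  have hQN : Subgroup.normalizer (Q : Set H) = (N ⊓ H).subgroupOf H := by
    ext g
    rw [← Sylow.coe_coe, Subgroup.mem_subgroupOf, Subgroup.mem_inf, Subgroup.mem_normalizer_iff, hN,
      Subgroup.mem_normalizer_iff, hQ, Sylow.coe_subtype]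
    simp only [Subgroup.mem_subgroupOf, Subgroup.coe_mul, InvMemClass.coe_inv, g.2, and_true]
    exact ⟨fun h x => ⟨fun hx => (h ⟨x, hPH hx⟩).1 hx, fun hx => by
      have hxH : x ∈ H := by
        have := mul_mem (mul_mem (inv_mem g.2) (hPH hx)) g.2
        simpa [mul_assoc] using this
      exact (h ⟨x, hxH⟩).2 hx⟩, fun h x => h x⟩
  refine ⟨w, Nat.card (Sylow 11 H), h2w, hwc, card_sylow_modEq_one 11 H, ?_⟩
  rw [Q.card_eq_index_normalizer, hQN, ← hNH,
    ← Nat.card_congr (Subgroup.subgroupOfEquivOfLe (inf_le_right : N ⊓ H ≤ H)).toEquiv,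
    Subgroup.card_mul_index]

include X S hC in
theorem class_mem_kFor (he : e = 5) (h5 : ¬ 5 ∣ c) (hc : c ≠ 0) :
    Nat.card G / Nat.card (Subgroup.centralizer ({D.z} : Set G)) ∈ kFor c := by
  obtain ⟨hK, hmul⟩ := class_mem_kList X S D
  obtain ⟨w, n, h2, hwc, hn, hcard⟩ := centralizer_count S hC D he h5
  set K := Nat.card G / Nat.card (Subgroup.centralizer ({D.z} : Set G))
  have hK0 : 0 < K := Nat.pos_of_ne_zero fun h => by rw [h, zero_mul] at hmul; norm_num at hmul
  have hdiv : ord24 / K = 55 * w * n := by rw [← hmul, Nat.mul_div_cancel_left _ hK0, hcard]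
  have hw0 : 0 < w := Nat.pos_of_dvd_of_pos hwc (Nat.pos_of_ne_zero hc)
  refine List.mem_filter.2 ⟨hK, List.any_eq_true.2 ⟨w, List.mem_range.2 ?_, ?_⟩⟩
  · have := Nat.le_of_dvd (Nat.pos_of_ne_zero hc) hwc; omega
  · simp only [hdiv, Bool.and_eq_true, beq_iff_eq]
    exact ⟨⟨⟨Nat.mod_eq_zero_of_dvd h2, Nat.mod_eq_zero_of_dvd hwc⟩, Nat.mul_mod_right _ _⟩,
      by rw [Nat.mul_div_cancel_left _ (by omega)]; exact hn⟩

variable [IsSimpleGroup G]

include X D in
/-- The congruence of a member's value at the involution. -/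
theorem su_modA {χ : IrrCharacter G} (hχ : χ ∈ S.Z) :
    (modA (sd S χ) : ℤ) ∣ su S D.z χ - sd S χ := by
  obtain ⟨h22, h4⟩ := su_mod S X D.hz (by norm_num) D.hzC hχ
  have h44 : (44 : ℤ) ∣ su S D.z χ - sd S χ := by omega
  unfold modA
  split_ifs with h
  · rw [beq_iff_eq] at h
    have h5 : (5 : ℤ) ∣ (sd S χ) := Int.dvd_of_emod_eq_zero h
    haveI : Fact (Nat.Prime 5) := ⟨by norm_num⟩
    have hd5 : 5 ∣ dg χ := by rw [← sd_natAbs S hχ]; exact Int.natCast_dvd.1 h5
    have hfull : (MEleven.deg χ).factorization 5 = (Nat.card G).factorization 5 := by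
      have h1 := Nat.Prime.factorization_pos_of_dvd (by norm_num : Nat.Prime 5) (Block.charDegree_pos χ).ne' hd5
      have h2 := (Nat.factorization_le_iff_dvd (Block.charDegree_pos χ).ne' Nat.card_pos.ne').2
        (Block.charDegree_dvd_card χ) 5
      have h3 : (Nat.card G).factorization 5 = 1 := by
        rw [X.hcard]
        exact factorization_eq (r := 5) (k := 1) (m := 48964608) (by norm_num) (by norm_num) (by norm_num)
      refine le_antisymm h2 ?_
      rw [h3]
      exact h1
    have hz2 : D.z ^ 2 = 1 := D.hz ▸ pow_orderOf_eq_one D.z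
    have hdt := two_mul_dvd_of_defectZero χ (by norm_num) hfull D.hb D.hz D.hbz
      (MTwentyTwo.cast_intVal χ hz2).symm
    have hu : (5 : ℤ) ∣ su S D.z χ := by
      have h5d : (5 : ℤ) ∣ (dg χ : ℤ) := by exact_mod_cast hd5
      have h5t : (5 : ℤ) ∣ MTwentyTwo.intVal D.z χ := by
        have := dvd_sub (dvd_trans ⟨2, rfl⟩ hdt : (5 : ℤ) ∣ _) h5d
        rwa [show (MEleven.deg χ : ℤ) + MTwentyTwo.intVal D.z χ - (dg χ : ℤ) = MTwentyTwo.intVal D.z χ
          from add_sub_cancel_left _ _] at this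
      exact dvd_mul_of_dvd_right h5t _
    omega
  · exact h44

end Cfsg.Lib.MTwentyFour.Eleven
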