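import Cfsg.Agent.Lib.MTwentyFour.Eleven.FamilyFive
import Cfsg.Agent.Lib.MTwentyFour.Eleven.CheckFamA
import Cfsg.Agent.Lib.MTwentyFour.Eleven.CheckFamB
import Cfsg.Agent.Lib.MTwentyFour.SevenEleven

/-!
In a simple group of order 244823040 the Sylow 11-subgroup is self-centralizing with automizer of
order 10.
-/

set_option autoImplicit false
set_option linter.style.haveILetI false
set_option linter.unusedSectionVars false
set_option maxHeartbeats 1000000

namespace Cfsg.Lib.MTwentyFour.Eleven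

open Cfsg Cfsg.Lib Cfsg.Lib.Block
open Cfsg.Lib.MTwentyFour.Search (isExc w23 ord24)
open scoped ComplexConjugate Classical

universe u

noncomputable local instance (priority := high) fintypeSubgroupLocal {A : Type u}
    [Group A] [Fintype A] (H : Subgroup A) : Fintype H := Fintype.ofFinite H

local notation "C[" P "]" => Subgroup.centralizer (SetLike.coe P)

variable {G : Type u} [Group G] [Fintype G]

theorem su_one {p : ℕ} [Fact p.Prime] {P : Sylow p G} {e : ℕ} (S : Small.Shape P e) (z : G) :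
    su S z (Small.one' G) = 1 := by
  rw [su, S.sign_one, MTwentyTwo.intVal_eq (m := 1) (by rw [Small.one'_apply]; norm_num)]; norm_num

theorem su_sq {p : ℕ} [Fact p.Prime] {P : Sylow p G} {e : ℕ} (S : Small.Shape P e) (z : G)
    {χ : IrrCharacter G} (hχ : χ ∈ S.Z) :
    MTwentyTwo.intVal z χ * MTwentyTwo.intVal z χ = su S z χ * su S z χ := by
  rcases S.sign χ hχ with h | h <;> rw [su, h] <;> ring

theorem sum_sq_le_div {z : G} (hz : z ^ 2 = 1) {K : ℕ}
    (hK : K * Nat.card (Subgroup.centralizer ({z} : Set G)) = ord24) (T : Finset (IrrCharacter G)) :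
    ∑ χ ∈ T, MTwentyTwo.intVal z χ * MTwentyTwo.intVal z χ ≤ ((ord24 / K : ℕ) : ℤ) := by
  have hK0 : 0 < K := Nat.pos_of_ne_zero fun h => by rw [h, zero_mul] at hK; norm_num at hK
  rw [← hK, Nat.mul_div_cancel_left _ hK0, ← MTwentyTwo.sum_intVal_sq hz]
  exact Finset.sum_le_sum_of_subset_of_nonneg (Finset.subset_univ _) fun _ _ _ => mul_self_nonneg _

variable [IsSimpleGroup G] [Fact (Nat.Prime 11)] {P : Sylow 11 G} (X : Ctx G) {c : ℕ}
  (hC : Nat.card C[(P : Subgroup G)] = 11 * c) (D : InvData P)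
  {K : ℕ} (hKC : K * Nat.card (Subgroup.centralizer ({D.z} : Set G)) = ord24)

include X hC in
theorem deg_dvd_div {e : ℕ} (S : Small.Shape P e) {χ : IrrCharacter G} (hχ : χ ∈ S.Z) :
    dg χ ∣ ord24 / (11 * c) :=
  deg_dvd_mul S hC hχ (by
    rw [X.hcard, Nat.mul_div_cancel' (X.hcard ▸ hC ▸ Subgroup.card_subgroup_dvd_card _)])

include X hC in
theorem ord_div_dvd : ord24 / (11 * c) ∣ ord24 :=
  ⟨11 * c, by rw [Nat.div_mul_cancel (X.hcard ▸ hC ▸ Subgroup.card_subgroup_dvd_card _)]⟩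

include X hC hKC in
/-- The check of the principal family at 11 with automizer of order 5. -/
theorem no_five (S : Small.Shape P 5) (hc0 : c ≠ 0) (hc1 : c ≠ 1) {Ks : List ℕ} (hchk : checkA c Ks = true)
    (hKl : K ∈ kList) (hK : K ∈ Ks) : False := by
  have hsq : ¬ 11 * 11 ∣ Nat.card G := X.hcard ▸ by norm_num
  have hz2 : D.z ^ 2 = 1 := D.hz ▸ pow_orderOf_eq_one D.z
  have hzp := MTwentyTwo.not_dvd_orderOf (G := G) (p := 11) Fact.out (by norm_num) D.hz
  set M := ord24 / (11 * c) with hM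
  have h1 : Small.one' G ∈ S.X := S.one_mem_X (by norm_num)
  have hθ : S.θ ∈ S.Z := S.mem_Z.2 (Or.inl rfl)
  have hθ1 : S.θ ≠ Small.one' G := S.θ_ne_one (by norm_num)
  have hexcθ : isExc (dg S.θ) = false := θ_not_exc S X (by norm_num) (by norm_num)
  obtain ⟨a, b, d, l, hab, hbd, hdl, hnd, hmem, hsum⟩ := exists_quad (S.X.erase (Small.one' G))
    (by rw [Finset.card_erase_of_mem h1, S.card_X]) (sd S)
  have hin : ∀ χ ∈ [a, b, d, l], χ ∈ S.Z ∧ χ ≠ Small.one' G ∧ χ ∈ S.X := fun χ hχ => by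
    obtain ⟨hne, hX⟩ := Finset.mem_erase.1 ((hmem χ).2 hχ)
    exact ⟨S.mem_Z.2 (Or.inr hX), hne, hX⟩
  have hZ : ∀ f : IrrCharacter G → ℤ,
      ∑ χ ∈ S.Z, f χ = f S.θ + (f (Small.one' G) + (f a + f b + f d + f l)) := fun f => by
    rw [S.Z_eq, Finset.sum_insert S.θ_notMem, ← Finset.add_sum_erase _ _ h1, hsum]
  have hdeg : ∑ χ ∈ S.Z, sd S χ = 0 := S.rel_deg
  rw [hZ, sd_one] at hdeg
  obtain ⟨hcol, -, -⟩ := column_facts S X (by norm_num)
  rw [hZ, sd_one, xw_one] at hcol
  have hsdl : -(1 + sd S a + sd S b + sd S d + sd S S.θ) = sd S l := by omega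
  have hexc : excOk [sd S a, sd S b, sd S d, sd S l] = true := by
    refine excOk_of S X (by norm_num) (L := [a, b, d, l]) hnd (fun χ hχ => (hin χ hχ).1) fun χ hχ hχe => ?_
    rcases S.mem_Z.1 hχ with rfl | hX
    · simp [hexcθ] at hχe
    · refine (hmem χ).1 (Finset.mem_erase.2 ⟨fun e => ?_, hX⟩)
      rw [e, show dg (Small.one' G) = 1 from Small.charDegree_one'] at hχe
      exact absurd hχe (by decide)
  have hcand : ∀ χ ∈ [a, b, d, l], sd S χ ∈ cands 11 1 22 M false := fun χ hχ => by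
    obtain ⟨hχZ, hne, hX⟩ := hin χ hχ
    exact sd_mem_cands S X (by norm_num) hχZ (by norm_num) one_pos (sd_modEq_X S hX)
      (deg_ge S X hsq hC hc1 hχZ hne) (deg_dvd_div X hC S hχZ) (ord_div_dvd X hC) (by simp)
  have hθc : sd S S.θ ∈ cands 11 6 22 M true :=
    sd_mem_cands S X (by norm_num) hθ (by norm_num) (by norm_num) (sd_modEq_θ S)
      (deg_ge S X hsq hC hc1 hθ hθ1) (deg_dvd_div X hC S hθ) (ord_div_dvd X hC) (fun _ => hexcθ)
  have hfam : (sd S a, sd S b, sd S d, sd S l, sd S S.θ) ∈ famA c := by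
    simp only [famA, List.mem_flatMap, List.mem_filter, decide_eq_true_eq]
    refine ⟨sd S a, hcand a (by simp), sd S b, ⟨hcand b (by simp), hab⟩, sd S d,
      ⟨hcand d (by simp), hbd⟩, sd S S.θ, hθc, ?_⟩
    rw [hsdl, if_pos]
    · simp
    · simp only [Bool.and_eq_true, decide_eq_true_eq, beq_iff_eq, List.contains_iff_mem]
      exact ⟨⟨⟨hdl, by omega⟩, hcand l (by simp)⟩, hexc⟩
  have hkill := List.all_eq_true.1 (List.all_eq_true.1 hchk _ hfam) K hK
  have hdom : ∀ χ ∈ S.Z, χ ≠ Small.one' G → su S D.z χ ∈ dom K (sd S χ) (modA (sd S χ)) := fun χ hχ hne =>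
    mem_dom (by unfold modA; split_ifs <;> norm_num) hKl (su_inBox S X D.hz hχ hne hKC) (su_modA X S D hχ)
  simp only [killA, List.all_eq_true] at hkill
  have hk := hkill _ (hdom _ hθ hθ1) _ (hdom a (hin a (by simp)).1 (hin a (by simp)).2.1)
    _ (hdom b (hin b (by simp)).1 (hin b (by simp)).2.1)
  have hrel := su_rel S X D.hz hzp
  rw [hZ, su_one] at hrel
  set ua := su S D.z a
  set ub := su S D.z b
  set ud := su S D.z d
  set ul := su S D.z l
  set ut := su S D.z S.θ
  have hul : -(1 + ua + ub + ud + ut) = ul := by omega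
  have hub : 1 + ua * ua + ub * ub + ud * ud + ul * ul + 2 * (ut * ut) ≤ ((ord24 / K : ℕ) : ℤ) := by
    refine le_trans (le_of_eq ?_) (sum_sq_le_div hz2 hKC (S.X ∪ S.Y))
    rw [Finset.sum_union S.disj, ← Finset.add_sum_erase _ _ h1, hsum,
      Finset.sum_congr (rfl : S.Y = S.Y) (g := fun _ => ut * ut) fun θ' h' => by
        rw [← su_sq S D.z hθ, MTwentyTwo.intVal_eq (z := D.z) (χ := θ') (m := MTwentyTwo.intVal D.z S.θ) (by
          rw [S.agree θ' h' D.z hzp, MTwentyTwo.cast_intVal S.θ hz2])],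
      Finset.sum_const, S.card_Y, su_sq S D.z (hin a (by simp)).1, su_sq S D.z (hin b (by simp)).1,
      su_sq S D.z (hin d (by simp)).1, su_sq S D.z (hin l (by simp)).1, su_sq S D.z S.one_mem, su_one]
    simp
    ring
  rw [Bool.or_eq_true, decide_eq_true_eq, List.all_eq_true] at hk
  rcases hk with hk | hk
  · nlinarith [mul_self_nonneg ud, mul_self_nonneg ul]
  have hk := hk ud (hdom d (hin d (by simp)).1 (hin d (by simp)).2.1)
  have hT : tSum S D.z = 0 := by
    obtain ⟨m, hm, hsqr⟩ := class_square S.card_P S hC (by norm_num) D.hz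
    have hm0 : m = 0 := hm.resolve_left (by norm_num)
    rw [hm0, mul_zero, Nat.cast_zero, zero_mul] at hsqr
    exact (mul_eq_zero.1 hsqr.symm).resolve_left
      (mul_ne_zero (Nat.cast_ne_zero.2 hc0) (Nat.cast_ne_zero.2 Nat.card_pos.ne'))
  have hnum : sd S a * sd S b * sd S d * sd S l * sd S S.θ + ua * ua * sd S b * sd S d * sd S l * sd S S.θ +
      sd S a * ub * ub * sd S d * sd S l * sd S S.θ + sd S a * sd S b * ud * ud * sd S l * sd S S.θ +
      sd S a * sd S b * sd S d * (ul * ul) * sd S S.θ + sd S a * sd S b * sd S d * sd S l * (ut * ut) = 0 := by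
    rw [tSum_eq S X D.hz, S.Z_eq, Finset.sum_insert S.θ_notMem, ← Finset.add_sum_erase _ _ h1] at hT
    have hT' := hsum
    have e4 : ∑ χ ∈ S.X.erase (Small.one' G), ((su S D.z χ : ℂ) * (su S D.z χ : ℂ) / (sd S χ : ℂ)) =
        (ua : ℂ) * ua / sd S a + (ub : ℂ) * ub / sd S b + (ud : ℂ) * ud / sd S d + (ul : ℂ) * ul / sd S l := by
      rw [show S.X.erase (Small.one' G) = ([a, b, d, l].toFinset) by ext χ; rw [List.mem_toFinset]; exact hmem χ,
        List.sum_toFinset _ hnd]
      simp only [List.map_cons, List.map_nil, List.sum_cons, List.sum_nil]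
      ring
    rw [e4, su_one, sd_one] at hT
    have hne : ∀ χ ∈ S.Z, (sd S χ : ℂ) ≠ 0 := fun χ hχ => Int.cast_ne_zero.2 (sd_ne_zero S hχ)
    have n1 := hne a (hin a (by simp)).1
    have n2 := hne b (hin b (by simp)).1
    have n3 := hne d (hin d (by simp)).1
    have n4 := hne l (hin l (by simp)).1
    have n5 := hne S.θ hθ
    have : ((sd S a * sd S b * sd S d * sd S l * sd S S.θ + ua * ua * sd S b * sd S d * sd S l * sd S S.θ +
      sd S a * ub * ub * sd S d * sd S l * sd S S.θ + sd S a * sd S b * ud * ud * sd S l * sd S S.θ +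
      sd S a * sd S b * sd S d * (ul * ul) * sd S S.θ + sd S a * sd S b * sd S d * sd S l * (ut * ut) : ℤ) : ℂ) = 0 := by
      push_cast at hT ⊢
      field_simp at hT
      linear_combination hT
    exact_mod_cast this
  have hsq' : (1 + ua + ub + ud + ut) * (1 + ua + ub + ud + ut) = ul * ul := by rw [← hul]; ring
  rw [hul, hsq'] at hk
  simp only [Bool.not_eq_true', Bool.and_eq_false_iff, decide_eq_false_iff_not, beq_eq_false_iff_ne] at hk
  obtain ⟨hlZ, hl1, -⟩ := hin l (by simp)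
  rcases hk with ((hk | hk) | hk) | hk
  · exact hk (Int.emod_eq_zero_of_dvd (su_modA X S D hlZ))
  · rw [su_inBox S X D.hz hlZ hl1 hKC] at hk; simp at hk
  · exact hk hub
  · exact hk hnum

section Five

variable [Fact (Nat.Prime 5)] {Q : Sylow 5 G} {q : ℕ} (S5 : Small.Shape Q 4)
  (hQC : Nat.card C[(Q : Subgroup G)] = 5 * q)

include X hC hKC hQC in
/-- The check of the principal family at 5. -/
theorem five_kill {e : ℕ} (S : Small.Shape P e) (he : e = 5 ∨ e = 10) (hc1 : c ≠ 1) (hc5 : ¬ 5 ∣ c)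
    (hcase : e = 5 → c = 2) (hzQ : D.z ∈ C[(Q : Subgroup G)]) (h2q : 2 ∣ q) {Ks : List ℕ}
    (hchk : fam5.all (killB e (ord24 / (11 * c)) Ks) = true) (hKl : K ∈ kList) (hK : K ∈ Ks)
    (h24 : e = 10 → ∀ χ ∈ S5.Z, dg χ ≠ 24) :
    ∃ a b d l : IrrCharacter G, [a, b, d, l].Nodup ∧ (∀ χ, χ ∈ S5.Z.erase (Small.one' G) ↔ χ ∈ [a, b, d, l]) ∧
      killV e K (sd S5 a, sd S5 b, sd S5 d, sd S5 l)
        (su S5 D.z a, su S5 D.z b, su S5 D.z d, su S5 D.z l) = true := by
  have hsq5 : ¬ 5 * 5 ∣ Nat.card G := X.hcard ▸ by norm_num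
  have hz2 : D.z ^ 2 = 1 := D.hz ▸ pow_orderOf_eq_one D.z
  have hzp := MTwentyTwo.not_dvd_orderOf (G := G) (p := 5) Fact.out (by norm_num) D.hz
  have hq1 : q ≠ 1 := by rintro rfl; norm_num at h2q
  obtain ⟨a, b, d, l, hab, hbd, hdl, hnd, hmem, hsum⟩ := exists_quad (S5.Z.erase (Small.one' G))
    (by rw [Finset.card_erase_of_mem S5.one_mem, S5.card_Z]) (sd S5)
  have hin : ∀ χ ∈ [a, b, d, l], χ ∈ S5.Z ∧ χ ≠ Small.one' G := fun χ hχ => by
    obtain ⟨hne, hZ⟩ := Finset.mem_erase.1 ((hmem χ).2 hχ)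
    exact ⟨hZ, hne⟩
  have hZ : ∀ f : IrrCharacter G → ℤ,
      ∑ χ ∈ S5.Z, f χ = f (Small.one' G) + (f a + f b + f d + f l) := fun f => by
    rw [← Finset.add_sum_erase _ _ S5.one_mem, hsum]
  have hdeg : ∑ χ ∈ S5.Z, sd S5 χ = 0 := S5.rel_deg
  rw [hZ, sd_one] at hdeg
  obtain ⟨hcol, -, -⟩ := column_facts S5 X (by norm_num)
  rw [hZ, sd_one, xw_one] at hcol
  obtain ⟨m, hm⟩ : 5 * q ∣ ord24 := X.hcard ▸ hQC ▸ Subgroup.card_subgroup_dvd_card _
  have hcand : ∀ χ ∈ [a, b, d, l], sd S5 χ ∈ cands 5 1 10 (ord24 / 10) false := fun χ hχ => by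
    obtain ⟨hχZ, hne⟩ := hin χ hχ
    refine sd_mem_cands S5 X (by norm_num) hχZ (by norm_num) one_pos (sd_modEq_Z S5 (by norm_num) hχZ)
      (deg_ge S5 X hsq5 hQC hq1 hχZ hne) ((deg_dvd_mul S5 hQC hχZ (X.hcard.trans hm)).trans ?_) (by norm_num) (by simp)
    obtain ⟨q', rfl⟩ := h2q
    refine ⟨q', ?_⟩
    rw [show ord24 / 10 = 24482304 by norm_num]; simp only [ord24] at hm; nlinarith
  have hexc : excOk [sd S5 a, sd S5 b, sd S5 d, sd S5 l] = true := by
    refine excOk_of S5 X (by norm_num) (L := [a, b, d, l]) hnd (fun χ hχ => (hin χ hχ).1) fun χ hχ hχe => ?_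
    refine (hmem χ).1 (Finset.mem_erase.2 ⟨fun e => ?_, hχ⟩)
    rw [e, show dg (Small.one' G) = 1 from Small.charDegree_one'] at hχe
    exact absurd hχe (by decide)
  have hsdl : -(1 + sd S5 a + sd S5 b + sd S5 d) = sd S5 l := by omega
  have hfam : (sd S5 a, sd S5 b, sd S5 d, sd S5 l) ∈ fam5 := by
    simp only [fam5, List.mem_flatMap, List.mem_filter, decide_eq_true_eq]
    refine ⟨sd S5 a, hcand a (by simp), sd S5 b, ⟨hcand b (by simp), hab⟩, sd S5 d,
      ⟨hcand d (by simp), hbd⟩, ?_⟩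
    rw [hsdl, if_pos]
    · simp
    · simp only [Bool.and_eq_true, decide_eq_true_eq, beq_iff_eq, List.contains_iff_mem]
      exact ⟨⟨⟨hdl, by omega⟩, hcand l (by simp)⟩, hexc⟩
  have hopt : ∀ χ ∈ [a, b, d, l],
      ((wgt S χ).1, S5.σ χ * (wgt S χ).2) ∈ opts e (ord24 / (11 * c)) (sd S5 χ) := fun χ hχ =>
    wgt_mem_opts X S S5 he hc1 hC (hin χ hχ).1 (hin χ hχ).2
  have hdom : ∀ χ ∈ [a, b, d, l],
      su S5 D.z χ ∈ dom5 e K (sd S5 χ) ((wgt S χ).1, S5.σ χ * (wgt S χ).2) := fun χ hχ =>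
    su_mem_dom5 X S hC D S5 hQC he hcase hzQ hKl hKC (hin χ hχ).1 (hin χ hχ).2
  -- the two families meet
  have hcap : (if e = 5 then 2 else 1 : ℤ) + S5.σ a * (wgt S a).2 + S5.σ b * (wgt S b).2 +
      S5.σ d * (wgt S d).2 + S5.σ l * (wgt S l).2 = 0 := by
    have h := cap_relation hC S5 hQC hc5
    rw [Finset.sum_congr rfl fun χ _ => by rw [sSum_wgt S hC he χ, mul_left_comm], ← Finset.mul_sum,
      mul_eq_zero, Nat.cast_eq_zero] at h
    have h' : ∑ χ ∈ S5.Z, S5.σ χ * (wgt S χ).2 = 0 := by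
      have hc0 : c ≠ 0 := fun h0 => Nat.card_pos.ne' (hC.trans (by rw [h0, mul_zero]))
      have := h.resolve_left (mul_ne_zero (by split_ifs <;> norm_num) hc0)
      exact_mod_cast this
    rw [hZ, S5.sign_one] at h'
    have hw1 : (wgt S (Small.one' G)).2 = (if e = 5 then 2 else 1 : ℤ) := by
      rcases S.mem_Z.1 S.one_mem with h | h
      · have hX : Small.one' G ∉ S.X := h ▸ S.θ_notMem
        have hY : Small.one' G ∈ S.Y := h ▸ S.θ_mem
        rw [wgt, if_neg hX, if_pos hY, ← h, S.sign_one]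
        rcases he with rfl | rfl
        · exact absurd h.symm (S.θ_ne_one (by norm_num))
        · rfl
      · rw [wgt, if_pos h, S.sign_one, one_mul]
    rw [hw1] at h'
    linarith
  have hkill := List.all_eq_true.1 hchk _ hfam
  simp only [killB, Bool.or_eq_true, Bool.and_eq_true, List.all_eq_true] at hkill
  rcases hkill with ⟨he10, h24'⟩ | hkill
  · exfalso
    have hh : ∀ χ ∈ [a, b, d, l], sd S5 χ ≠ -24 := fun χ hχ h => h24 (by simpa using he10) χ (hin χ hχ).1
      (by rw [← sd_natAbs S5 (hin χ hχ).1, h]; rfl)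
    simp only [beq_iff_eq] at h24'
    rcases h24' with ((h | h) | h) | h <;> exact hh _ (by simp) h
  refine ⟨a, b, d, l, hnd, hmem, ?_⟩
  have hk := hkill _ (hopt a (by simp)) _ (hopt b (by simp)) _ (hopt d (by simp)) _ (hopt l (by simp))
  have hk := hk.resolve_left (by
    simp only [Bool.not_eq_true', beq_eq_false_iff_ne, ne_eq, not_not, beq_iff_eq]
    exact hcap)
  have hk := hk K hK _ (hdom a (by simp)) _ (hdom b (by simp)) _ (hdom d (by simp))
  have hrel := su_rel S5 X D.hz hzp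
  rw [hZ, su_one] at hrel
  rw [show -(1 + su S5 D.z a + su S5 D.z b + su S5 D.z d) = su S5 D.z l by omega] at hk
  exact hk.resolve_left (by simpa [List.contains_iff_mem] using hdom l (by simp))

end Five

include X hC hKC in
/-- No cofactor 2 for an automizer of order 5. -/
theorem no_five_two (S : Small.Shape P 5) (hc : c = 2) (hKl : K ∈ kList) (hK : K ∈ kFor 2) : False := by
  by_cases hK2 : K = 276 ∨ K = 3312
  swap
  · subst hc
    push Not at hK2
    exact no_five X hC D hKC S (by norm_num) (by norm_num) checkA_two hKl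
      (List.mem_filter.2 ⟨hK, by simp [hK2.1, hK2.2]⟩)
  haveI : Fact (Nat.Prime 5) := ⟨by norm_num⟩
  have hz2 : D.z ^ 2 = 1 := D.hz ▸ pow_orderOf_eq_one D.z
  obtain ⟨Q, q, S5, hQC, hbQ, hb1, hzQ, h2q, hqL⟩ := five_setup X hC (by omega) D
  obtain ⟨a, b, d, l, hnd, hmem, hk⟩ := five_kill X hC D hKC S5 hQC S (Or.inl rfl) (by omega) (by omega)
    (fun _ => hc) hzQ h2q (Ks := [276, 3312]) (by subst hc; exact checkB_five) hKl (by simpa using hK2) (by simp)
  simp only [killV, beq_self_eq_true, if_true, decide_eq_true_eq] at hk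
  have hin : ∀ χ ∈ [a, b, d, l], χ ∈ S5.Z := fun χ hχ => Finset.mem_of_mem_erase ((hmem χ).2 hχ)
  have h := sum_sq_le_div hz2 hKC S5.Z
  rw [← Finset.add_sum_erase _ _ S5.one_mem,
    show S5.Z.erase (Small.one' G) = [a, b, d, l].toFinset by ext χ; rw [List.mem_toFinset]; exact hmem χ,
    List.sum_toFinset _ hnd] at h
  simp only [List.map_cons, List.map_nil, List.sum_cons, List.sum_nil] at h
  rw [su_sq S5 D.z (hin a (by simp)), su_sq S5 D.z (hin b (by simp)), su_sq S5 D.z (hin d (by simp)),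
    su_sq S5 D.z (hin l (by simp)), su_sq S5 D.z S5.one_mem, su_one] at h
  linarith

include X hC hKC in
/-- No cofactor 12 for an automizer of order 10. -/
theorem no_ten_twelve (S : Small.Shape P 10) (hc : c = 12) (hKl : K ∈ kList)
    (hW : ∀ w ∈ regs P, Commute D.b w) : False := by
  haveI : Fact (Nat.Prime 5) := ⟨by norm_num⟩
  have hz2 : D.z ^ 2 = 1 := D.hz ▸ pow_orderOf_eq_one D.z
  have hsq : ¬ 11 * 11 ∣ Nat.card G := X.hcard ▸ by norm_num
  have hM : ord24 / (11 * c) = ord24 / 132 := by rw [hc]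
  -- the member of degree 3840
  obtain ⟨χ0, hχ0, hne0, hs0⟩ : ∃ χ ∈ S.Z, χ ≠ Small.one' G ∧ sd S χ = 3840 := by
    obtain ⟨hcol, -, -⟩ := column_facts S X (by norm_num)
    rw [← Finset.add_sum_erase _ _ S.one_mem, sd_one, xw_one] at hcol
    by_contra hno
    push Not at hno
    have hpos : ∀ χ ∈ S.Z.erase (Small.one' G), 0 ≤ xw (sd S χ) := by
      intro χ hχ
      obtain ⟨hne, hχZ⟩ := Finset.mem_erase.1 hχ
      have hcand : sd S χ ∈ cands 11 1 22 (ord24 / 132) false :=
        sd_mem_cands S X (by norm_num) hχZ (by norm_num) one_pos (sd_modEq_Z S (by norm_num) hχZ)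
          (deg_ge S X hsq hC (by omega) hχZ hne) (hM ▸ deg_dvd_div X hC S hχZ) (by norm_num) (by simp)
      have h := List.all_eq_true.1 zero_w.2.2.2 _ hcand
      simp only [Bool.or_eq_true, decide_eq_true_eq, beq_iff_eq] at h
      rcases h with (h | h) | h
      · exact h
      · exfalso
        have hb := su_inBox S X D.hz hχZ hne hKC
        have hm := su_modA X S D hχZ
        rw [h] at hb hm
        simp only [inBox, Bool.and_eq_true, Nat.blt, Nat.ble_eq] at hb
        obtain ⟨⟨hb, -⟩, -⟩ := hb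
        norm_num [modA] at hm hb
        omega
      · exact absurd h (hno χ hχZ hne)
    have := Finset.sum_nonneg hpos
    omega
  have hd0 : dg χ0 = 3840 := by rw [← sd_natAbs S hχ0, hs0]; rfl
  have hv0 : su S D.z χ0 ∈ dom K 3840 220 := by
    have hm := su_modA X S D hχ0
    have hb := su_inBox S X D.hz hχ0 hne0 hKC
    rw [hs0] at hm hb
    exact mem_dom (by norm_num) hKl hb (by norm_num [modA] at hm ⊢; exact hm)
  have hKten : K ∈ kTen := by
    refine List.mem_filter.2 ⟨hKl, ?_⟩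
    cases hd : dom K 3840 220 with
    | nil => rw [hd] at hv0; simp at hv0
    | cons x t => rfl
  obtain ⟨Q, q, S5, hQC, hbQ, hb1, hzQ, h2q, hqL⟩ := five_setup X hC (by omega) D
  have h24 : ∀ χ ∈ S5.Z, dg χ ≠ 24 := by
    intro χ hχ hd
    by_cases h : χ ∈ S.X ∨ χ ∈ S.Y
    · obtain ⟨ψ, hψ, hdψ⟩ : ∃ ψ ∈ S.Z, dg ψ = 24 := by
        rcases h with h | h
        · exact ⟨χ, S.mem_Z.2 (Or.inr h), hd⟩
        · exact ⟨S.θ, S.mem_Z.2 (Or.inl rfl), (deg_Y S h).symm.trans hd⟩
      have hcg := S.cong_all (by norm_num) hψ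
      rw [show charDegree (ψ : G → ℂ) = 24 from hdψ] at hcg
      unfold Int.ModEq at hcg
      rcases S.sign ψ hψ with e | e <;> rw [e] at hcg <;> norm_num at hcg
    · push Not at h
      exact deg_ne_24 hC D S5 hQC S.card_P hc hbQ hb1 hW hχ ((sSum_props S.card_P S hC).2 χ h.1 h.2) hd
  obtain ⟨a, b, d, l, hnd, hmem, hk⟩ := five_kill X hC D hKC S5 hQC S (Or.inr rfl) (by omega) (by omega)
    (by norm_num) hzQ h2q (Ks := kTen) (by rw [hM]; exact checkB_ten) hKl hKten (fun _ => h24)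
  have hin : ∀ χ ∈ [a, b, d, l], χ ∈ S5.Z := fun χ hχ => Finset.mem_of_mem_erase ((hmem χ).2 hχ)
  simp only [killV, show ((10 : ℕ) == 5) = false from rfl, Bool.false_eq_true, if_false, Bool.or_eq_true,
    List.all_eq_true, decide_eq_true_eq, Bool.not_eq_true', beq_eq_false_iff_ne] at hk
  have hχ05 : χ0 ∉ S5.Z := fun h => S5.not_dvd_deg h (show 5 ∣ dg χ0 by rw [hd0]; norm_num)
  have hset : S5.Z.erase (Small.one' G) = [a, b, d, l].toFinset := by
    ext χ; rw [List.mem_toFinset]; exact hmem χ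
  set ua := su S5 D.z a
  set ub := su S5 D.z b
  set ud := su S5 D.z d
  set ul := su S5 D.z l
  rcases hk with hk | hk
  · have h := sum_sq_le_div hz2 hKC (insert χ0 S5.Z)
    rw [Finset.sum_insert hχ05, ← Finset.add_sum_erase _ _ S5.one_mem, hset, List.sum_toFinset _ hnd] at h
    simp only [List.map_cons, List.map_nil, List.sum_cons, List.sum_nil] at h
    rw [su_sq S D.z hχ0, su_sq S5 D.z (hin a (by simp)), su_sq S5 D.z (hin b (by simp)),
      su_sq S5 D.z (hin d (by simp)), su_sq S5 D.z (hin l (by simp)), su_sq S5 D.z S5.one_mem, su_one] at h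
    have := hk _ hv0
    linarith
  -- the square
  obtain ⟨m, -, hsqr⟩ := class_square S5.card_P S5 hQC (by norm_num) D.hz
  have hsum : tSum S5 D.z = 1 + ((ua : ℂ) * ua / sd S5 a + (ub : ℂ) * ub / sd S5 b +
      (ud : ℂ) * ud / sd S5 d + (ul : ℂ) * ul / sd S5 l) := by
    rw [tSum_eq S5 X D.hz, ← Finset.add_sum_erase _ _ S5.one_mem, hset, List.sum_toFinset _ hnd, su_one, sd_one]
    simp only [List.map_cons, List.map_nil, List.sum_cons, List.sum_nil, ua, ub, ud, ul]
    push_cast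
    ring
  have hC0 : ord24 / K = Nat.card (Subgroup.centralizer ({D.z} : Set G)) := by
    have hK0 : 0 < K := Nat.pos_of_ne_zero fun h => by rw [h, zero_mul] at hKC; norm_num at hKC
    rw [← hKC, Nat.mul_div_cancel_left _ hK0]
  set Cv := Nat.card (Subgroup.centralizer ({D.z} : Set G))
  set sa := sd S5 a with hsa
  set sb := sd S5 b with hsb
  set sdd := sd S5 d with hsd'
  set sl := sd S5 l with hsl
  have n1 : (sa : ℂ) ≠ 0 := Int.cast_ne_zero.2 (sd_ne_zero S5 (hin a (by simp)))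
  have n2 : (sb : ℂ) ≠ 0 := Int.cast_ne_zero.2 (sd_ne_zero S5 (hin b (by simp)))
  have n3 : (sdd : ℂ) ≠ 0 := Int.cast_ne_zero.2 (sd_ne_zero S5 (hin d (by simp)))
  have n4 : (sl : ℂ) ≠ 0 := Int.cast_ne_zero.2 (sd_ne_zero S5 (hin l (by simp)))
  have key : (q : ℤ) * (ord24 : ℤ) * (sa * sb * sdd * sl + ua * ua * sb * sdd * sl + sa * ub * ub * sdd * sl +
      sa * sb * ud * ud * sl + sa * sb * sdd * ul * ul) =
      5 * (Cv : ℤ) * (Cv : ℤ) * (sa * sb * sdd * sl) * ((m : ℤ) * m) := by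
    have : ((((q : ℤ) * (ord24 : ℤ) * (sa * sb * sdd * sl + ua * ua * sb * sdd * sl + sa * ub * ub * sdd * sl +
      sa * sb * ud * ud * sl + sa * sb * sdd * ul * ul)) : ℤ) : ℂ) =
        ((5 * (Cv : ℤ) * (Cv : ℤ) * (sa * sb * sdd * sl) * ((m : ℤ) * m) : ℤ) : ℂ) := by
      rw [X.hcard, hsum] at hsqr
      push_cast at hsqr ⊢
      field_simp at hsqr
      linear_combination -hsqr
    exact_mod_cast this
  have h := hk q hqL
  rw [hC0, key] at h
  have hD : (5 * (Cv : ℤ) * (Cv : ℤ) * (sa * sb * sdd * sl)) ≠ 0 := by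
    have hCv : (Cv : ℤ) ≠ 0 := Int.natCast_ne_zero.2 Nat.card_pos.ne'
    have e1 := sd_ne_zero S5 (hin a (by simp))
    have e2 := sd_ne_zero S5 (hin b (by simp))
    have e3 := sd_ne_zero S5 (hin d (by simp))
    have e4 := sd_ne_zero S5 (hin l (by simp))
    positivity
  rcases h with h | h
  · exact h (Int.mul_emod_right _ _)
  · rw [Int.mul_ediv_cancel_left _ hD] at h
    exact notSq_ne h (m : ℤ) rfl

include X hC in
/-- For a cofactor 12 an element of order 5 of the normalizer centralizes the complement. -/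
theorem exists_central_five (S : Small.Shape P 10) (hc : c = 12) :
    ∃ D : InvData P, ∀ w ∈ regs P, Commute D.b w := by
  haveI : Fact (Nat.Prime 5) := ⟨by norm_num⟩
  subst hc
  have h3 : (12 : ℕ).factorization 3 = 1 :=
    factorization_eq (r := 3) (k := 1) (m := 4) (by norm_num) (by norm_num) (by norm_num)
  obtain ⟨w3, a, hw3, hw3C, ha, haw, haN⟩ := exists_commute (P := P) (c := 12) (r := 3) (q := 5)
    (by norm_num) (by norm_num) (by norm_num) hC (by rw [h3]; norm_num) (S.relIndex_eq.symm ▸ by norm_num)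
  have hP := S.card_P
  obtain ⟨W, hWc, hWm⟩ := exists_regular_subgroup hP hC (by norm_num)
  have haW : ∀ w ∈ W, a * w * a⁻¹ ∈ W := by
    intro w hw
    obtain ⟨hwC, hwr⟩ := mem_regs.1 ((hWm w).1 hw)
    refine (hWm _).2 (mem_regs.2 ⟨Subgroup.mem_centralizer_iff.2 fun x hx => ?_, ?_⟩)
    · have hx' : a⁻¹ * x * a ∈ (P : Subgroup G) := (Subgroup.mem_normalizer_iff''.1 haN x).1 hx
      have := Subgroup.mem_centralizer_iff.1 hwC _ hx'
      calc x * (a * w * a⁻¹) = a * (a⁻¹ * x * a * w) * a⁻¹ := by group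
        _ = a * (w * (a⁻¹ * x * a)) * a⁻¹ := by rw [this]
        _ = a * w * a⁻¹ * x := by group
    · rwa [show orderOf (a * w * a⁻¹) = orderOf w from (MulAut.conj a).orderOf_eq w]
  let f : Function.End W := fun w => ⟨a * w * a⁻¹, haW w w.2⟩
  have hfi : ∀ (i : ℕ) (w : W), (((f ^ i) w : W) : G) = a ^ i * w * (a ^ i)⁻¹ := by
    intro i
    induction i with
    | zero => intro w; simp; rfl
    | succ i ih =>
      intro w
      rw [pow_succ']
      show a * ((f ^ i) w : W) * a⁻¹ = _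
      rw [ih, pow_succ']; group
  have hf : f ^ 5 ^ 1 = 1 := funext fun w => Subtype.ext (by
    rw [pow_one, hfi, ← ha, pow_orderOf_eq_one]; simp; rfl)
  have hfix := Equiv.Perm.card_fixedPoints_modEq (p := 5) hf
  set F := W ⊓ Subgroup.centralizer ({a} : Set G) with hF
  have hFc : Nat.card F = Fintype.card (Function.fixedPoints f) := by
    rw [← Nat.card_eq_fintype_card]
    refine Nat.card_congr
      { toFun := fun w => ⟨⟨w, w.2.1⟩, Subtype.ext ?_⟩
        invFun := fun w => ⟨(w.1 : G), w.1.2, Subgroup.mem_centralizer_singleton_iff.2 ?_⟩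
        left_inv := fun w => rfl
        right_inv := fun w => rfl }
    · show a * (w : G) * a⁻¹ = (w : G)
      rw [← Subgroup.mem_centralizer_singleton_iff.1 w.2.2, mul_inv_cancel_right]
    · exact (mul_inv_eq_iff_eq_mul.1 (congrArg Subtype.val w.2)).symm
  rw [← Nat.card_eq_fintype_card, hWc, ← hFc] at hfix
  have h3F : 3 ∣ Nat.card F := hw3 ▸ Subgroup.orderOf_dvd_natCard _ (show w3 ∈ F from
    ⟨(hWm w3).2 (mem_regs.2 ⟨hw3C, by rw [hw3]; norm_num⟩), Subgroup.mem_centralizer_singleton_iff.2 haw.eq.symm⟩)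
  have hF12 : Nat.card F ∣ 12 := hWc ▸ Subgroup.card_dvd_of_le inf_le_left
  have hFeq : Nat.card F = 12 := by
    have := Nat.le_of_dvd (by norm_num) hF12
    unfold Nat.ModEq at hfix
    generalize Nat.card F = n at *
    interval_cases n <;> omega
  have hWF : W ≤ Subgroup.centralizer ({a} : Set G) :=
    inf_eq_left.1 (Subgroup.eq_of_le_of_card_ge inf_le_left (by rw [hFeq, hWc]))
  haveI : Fact (Nat.Prime 2) := ⟨Nat.prime_two⟩
  obtain ⟨z, hz⟩ := exists_prime_orderOf_dvd_card' (G := W) 2 (by rw [hWc]; norm_num)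
  refine ⟨⟨(z : G), a, by rw [Subgroup.orderOf_coe, hz], (mem_regs.1 ((hWm _).1 z.2)).1, ha, haN, ?_⟩, ?_⟩
  · exact (Subgroup.mem_centralizer_singleton_iff.1 (hWF z.2)).symm
  · exact fun w hw => (Subgroup.mem_centralizer_singleton_iff.1 (hWF ((hWm w).2 hw))).symm

end Eleven

local notation "C[" P "]" => Subgroup.centralizer (SetLike.coe P)

open Eleven in
/-- The Sylow 11-subgroup is self-centralizing with automizer of order 10. -/
theorem local_eleven {G : Type*} [Group G] [Finite G] [IsSimpleGroup G] [Fact (Nat.Prime 11)]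
    (hcard : Nat.card G = 244823040) (P : Sylow 11 G) :
    Nat.card C[(P : Subgroup G)] = 11 ∧
      (C[(P : Subgroup G)]).relIndex (Subgroup.normalizer ((P : Subgroup G) : Set G)) = 10 := by
  classical
  cases nonempty_fintype G
  obtain ⟨X⟩ := exists_ctx (G := G) hcard
  have hd : 11 ∣ Nat.card G := hcard ▸ by norm_num
  have hsq : ¬ 11 * 11 ∣ Nat.card G := hcard ▸ by norm_num
  have hP : Nat.card (P : Subgroup G) = 11 := Order175560.sylow_card_eq hd hsq P
  obtain ⟨c, hC⟩ : 11 ∣ Nat.card C[(P : Subgroup G)] := by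
    have := Subgroup.card_dvd_of_le (Block.le_centralizer_self hP)
    rwa [hP] at this
  obtain ⟨hed, he1, -⟩ := Order175560.relIndex_centralizer hd hsq (by rw [hcard]; norm_num) P
  set e := (C[(P : Subgroup G)]).relIndex (Subgroup.normalizer ((P : Subgroup G) : Set G)) with he
  obtain ⟨S⟩ := Small.exists_shape (p := 11) (by norm_num) P hP he.symm he1
  have hn : Nat.card (Sylow 11 G) * (e * c) = 22256640 := by
    have h := Small.card_normalizer_mul P
    rw [card_normalizer hP hC he.symm, hcard] at h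
    nlinarith
  have hmod : Nat.card (Sylow 11 G) % 11 = 1 := card_sylow_modEq_one 11 G
  have hec : 0 < e * c := Nat.pos_of_ne_zero fun h => by rw [h, mul_zero] at hn; norm_num at hn
  have hc0 : c ≠ 0 := fun h => by simp [h] at hec
  have h7 : ¬ 7 ∣ c := fun h => MTwentyFour.not_seven_dvd hcard P (hC ▸ dvd_mul_of_dvd_right h 11)
  have h23 : ¬ 23 ∣ c := fun h => by
    haveI : Fact (Nat.Prime 23) := ⟨by norm_num⟩
    obtain ⟨⟨u, hu⟩, huo⟩ := exists_prime_orderOf_dvd_card' (G := C[(P : Subgroup G)]) 23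
      (hC ▸ dvd_mul_of_dvd_right h 11)
    rw [Subgroup.orderOf_mk] at huo
    obtain ⟨⟨y, hy⟩, hyo⟩ := exists_prime_orderOf_dvd_card' (G := (P : Subgroup G)) 11 (by rw [hP])
    rw [Subgroup.orderOf_mk] at hyo
    have := X.cent u y huo (Subgroup.mem_centralizer_iff.1 hu y hy).symm
    rw [hyo] at this
    norm_num at this
  have hsd := (X.hcard ▸ hC ▸ Subgroup.card_subgroup_dvd_card (C[(P : Subgroup G)]) : 11 * c ∣ Search.ord24)
  have he2510 : e = 2 ∨ e = 5 ∨ e = 10 := by
    have := Nat.le_of_dvd (by norm_num) hed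
    interval_cases e <;> norm_num at hed <;> norm_num
  rcases he2510 with he' | he'
  · exfalso
    clear_value e
    subst he'
    have hc1 : c ≠ 1 := fun h => by
      subst h
      apply opt_two_ne_one
      rw [← hn, Nat.mul_div_cancel _ (by norm_num)]
      exact hmod
    refine no_two X S (Or.inr rfl) (M := Search.ord24 / 11)
      (qs := (dv (Search.ord24 / 22)).filter fun q => q % 7 != 0) hC hc1
      (List.mem_filter.2 ⟨mem_dv (by norm_num) ⟨Nat.card (Sylow 11 G), ?_⟩, ?_⟩) (by norm_num)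
      (fun χ hχ => (deg_dvd_div X hC S hχ).trans ⟨c, ?_⟩) hsq pair_eleven
    · rw [show Search.ord24 / 22 = 11128320 by norm_num]; linarith
    · simp only [bne_iff_ne]; exact fun h => h7 (Nat.dvd_of_mod_eq_zero h)
    · rw [← Nat.div_div_eq_div_mul, Nat.div_mul_cancel]
      exact Nat.dvd_div_of_mul_dvd hsd
  have hqd : c ∣ 22256640 := ⟨Nat.card (Sylow 11 G) * e, by rw [← hn]; ring⟩
  have htest := List.all_eq_true.1 opt_eleven c (mem_dv (by norm_num) hqd)
  simp only [optTest11, List.all_cons, List.all_nil, Bool.and_true, Bool.or_eq_true, Bool.and_eq_true,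
    beq_iff_eq, bne_iff_ne] at htest
  have htest := htest.resolve_left (not_or.2 ⟨fun h => h7 (Nat.dvd_of_mod_eq_zero h),
    fun h => h23 (Nat.dvd_of_mod_eq_zero h)⟩)
  have hdiv : 22256640 % (e * c) = 0 ∧ 22256640 / (e * c) % 11 = 1 := by
    rw [← hn, Nat.mul_mod_left, Nat.mul_div_cancel _ hec]; exact ⟨rfl, hmod⟩
  have h5c : ¬ 5 ∣ c := fun h => by
    rcases he' with he' | he' <;> rw [he'] at hdiv
    · have := htest.1.resolve_left (by omega)
      simp at this
      omega
    · have := htest.2.resolve_left (by omega)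
      simp at this
      omega
  have hexc : ∀ k, c.factorization 2 = k → 2 ^ k % 5 ≠ 1 → ∃ D : InvData P,
      Nat.card G / Nat.card (Subgroup.centralizer ({D.z} : Set G)) ∈ kList := fun k hk hk5 => by
    obtain ⟨z, a, hz, hzC, ha, haz, haN⟩ := exists_commute (P := P) (c := c) (r := 2) (q := 5)
      (by norm_num) (by norm_num) (by norm_num) hC (by rw [hk]; exact hk5) (by
        rw [← he]; rcases he' with h | h <;> simp [h])
    exact ⟨⟨z, a, hz, hzC, ha, haN, haz⟩, (class_mem_kList X S _).1⟩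
  rcases he' with he' | he' <;> clear_value e <;> subst he'
  · exfalso
    have hc := htest.1.resolve_left (by omega)
    simp only [List.contains_iff_mem, List.mem_cons, List.not_mem_nil, or_false] at hc
    have hc1 : c ≠ 1 := by omega
    by_cases hc' : c = 3456
    · -- only members vanishing at the element of order 23
      subst hc'
      obtain ⟨hcol, -, -⟩ := column_facts S X (by norm_num)
      rw [← Finset.add_sum_erase _ _ S.one_mem, sd_one, xw_one, Finset.sum_eq_zero fun χ hχ => ?_] at hcol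
      · omega
      obtain ⟨hne, hχZ⟩ := Finset.mem_erase.1 hχ
      rcases S.mem_Z.1 hχZ with h | h
      · rw [h]
        simpa using List.all_eq_true.1 zero_w.2.2.1 _ (sd_mem_cands S X (by norm_num) (h ▸ hχZ) (by norm_num)
          (by norm_num) (sd_modEq_θ S) (deg_ge S X hsq hC hc1 (h ▸ hχZ) (h ▸ hne)) (deg_dvd_div X hC S (h ▸ hχZ))
          (ord_div_dvd X hC) (fun _ => θ_not_exc S X (by norm_num) (by norm_num)))
      · simpa using List.all_eq_true.1 zero_w.2.1 _ (sd_mem_cands S X (by norm_num) hχZ (by norm_num)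
          one_pos (sd_modEq_X S h) (deg_ge S X hsq hC hc1 hχZ hne) (deg_dvd_div X hC S hχZ) (ord_div_dvd X hC) (by simp))
    obtain ⟨D, hKl⟩ : ∃ D : InvData P,
        Nat.card G / Nat.card (Subgroup.centralizer ({D.z} : Set G)) ∈ kList := by
      rcases hc with h | h | h | h
      · exact hexc 1 (by rw [h]; exact factorization_eq (r := 2) (k := 1) (m := 1) (by norm_num) (by norm_num) (by norm_num)) (by norm_num)
      · exact hexc 3 (by rw [h]; exact factorization_eq (r := 2) (k := 3) (m := 3) (by norm_num) (by norm_num) (by norm_num)) (by norm_num)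
      · exact hexc 5 (by rw [h]; exact factorization_eq (r := 2) (k := 5) (m := 9) (by norm_num) (by norm_num) (by norm_num)) (by norm_num)
      · exact absurd h hc'
    have hKF := class_mem_kFor X S hC D rfl h5c hc0
    have hKC := (class_mem_kList X S D).2
    rcases hc with h | h | h | h
    · exact no_five_two X hC D hKC S h hKl (h ▸ hKF)
    · subst h; exact no_five X hC D hKC S hc0 hc1 checkA_24 hKl hKF
    · subst h; exact no_five X hC D hKC S hc0 hc1 checkA_288 hKl hKF
    · exact hc' h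
  · have hc := htest.2.resolve_left (by omega)
    simp only [List.contains_iff_mem, List.mem_cons, List.not_mem_nil, or_false] at hc
    rcases hc with h | h | h
    · exact ⟨by rw [hC, h], rfl⟩
    · exfalso
      obtain ⟨D, hW⟩ := exists_central_five X hC S h
      exact no_ten_twelve X hC D (class_mem_kList X S D).2 S h (class_mem_kList X S D).1 hW
    · exfalso
      have hc1 : c ≠ 1 := by omega
      obtain ⟨hcol, -, -⟩ := column_facts S X (by norm_num)
      rw [← Finset.add_sum_erase _ _ S.one_mem, sd_one, xw_one, Finset.sum_eq_zero fun χ hχ => ?_] at hcol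
      · omega
      obtain ⟨hne, hχZ⟩ := Finset.mem_erase.1 hχ
      simpa using List.all_eq_true.1 (List.all_eq_true.1 zero_w.1 c (by simpa using h)) _
        (sd_mem_cands S X (by norm_num) hχZ (by norm_num) one_pos (sd_modEq_Z S (by norm_num) hχZ)
          (deg_ge S X hsq hC hc1 hχZ hne) (deg_dvd_div X hC S hχZ) (ord_div_dvd X hC) (by simp))

end Cfsg.Lib.MTwentyFour
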