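import Cfsg.Agent.Lib.MTwentyFour.Eleven.Involution

/-!
In a simple group of order 244823040 the automizer of a Sylow subgroup of order 11 has order
different from two, and likewise at 5 when the centralizer is of even order.
-/

set_option autoImplicit false
set_option linter.style.haveILetI false
set_option linter.unusedSectionVars false

namespace Cfsg.Lib.MTwentyFour.Eleven

open Cfsg Cfsg.Lib Cfsg.Lib.Block
open Cfsg.Lib.MTwentyFour.Search (isExc w23 ord24)
open scoped ComplexConjugate Classical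

universe u

noncomputable local instance (priority := high) fintypeSubgroupPairs {A : Type u}
    [Group A] [Fintype A] (H : Subgroup A) : Fintype H := Fintype.ofFinite H

local notation "C[" P "]" => Subgroup.centralizer (SetLike.coe P)

variable {G : Type u} [Group G] [Fintype G]

theorem notSq_ne {r : ℤ} (h : notSq r = true) (m : ℤ) : r ≠ m * m := by
  intro e
  simp only [notSq, Bool.or_eq_true, decide_eq_true_eq, Bool.and_eq_true, Nat.blt, Nat.ble_eq] at h
  rcases h with h | ⟨h1, h2⟩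
  · nlinarith [mul_self_nonneg m]
  · have hr : r.natAbs = m.natAbs * m.natAbs := by rw [e, Int.natAbs_mul]
    rw [hr] at h1 h2
    generalize isq (m.natAbs * m.natAbs) = s at h1 h2
    have h3 : s < m.natAbs := Nat.mul_self_lt_mul_self_iff.1 (by omega)
    have h4 : m.natAbs < s + 1 := Nat.mul_self_lt_mul_self_iff.1 (by omega)
    omega

theorem xw_one : xw 1 = 2 := by decide

variable {p : ℕ} [Fact p.Prime] {P : Sylow p G}

section Members

variable {e : ℕ} (S : Small.Shape P e)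

theorem sd_modEq_X {χ : IrrCharacter G} (hχ : χ ∈ S.X) : sd S χ ≡ ((1 : ℕ) : ℤ) [ZMOD p] := by
  simpa [sd] using S.cong χ hχ

theorem sd_modEq_Z (he : e + 1 = p) {χ : IrrCharacter G} (hχ : χ ∈ S.Z) :
    sd S χ ≡ ((1 : ℕ) : ℤ) [ZMOD p] := by
  simpa [sd] using S.cong_all he hχ

theorem sd_modEq_θ : sd S S.θ ≡ ((p - e : ℕ) : ℤ) [ZMOD p] := by
  refine (show sd S S.θ ≡ -(e : ℤ) [ZMOD p] from S.congθ).trans ?_
  rw [Nat.cast_sub S.e_lt.le]
  exact Int.modEq_iff_dvd.2 ⟨1, by ring⟩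

theorem deg_Y {θ' : IrrCharacter G} (h : θ' ∈ S.Y) : dg θ' = dg S.θ := by
  have h' := S.agree θ' h 1 (by rw [orderOf_one]; exact (Fact.out : p.Prime).not_dvd_one)
  rw [apply_one_eq_charDegree, apply_one_eq_charDegree] at h'
  exact_mod_cast h'


/-- A member other than the trivial character has degree at least `2 p` unless `P` is self-centralizing. -/
theorem deg_ge [IsSimpleGroup G] (X : Ctx G) (hsq : ¬ p * p ∣ Nat.card G) {c : ℕ} (hC : Nat.card C[(P : Subgroup G)] = p * c)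
    (hc1 : c ≠ 1) {χ : IrrCharacter G} (hχ : χ ∈ S.Z) (hne : χ ≠ Small.one' G) : 2 * p ≤ dg χ := by
  by_contra h
  have hnc : ¬ IsCyclic G := Small.not_isCyclic_of_card (by rw [X.hcard]; norm_num)
  have := S.small hnc (by rw [pow_two]; exact hsq) hχ hne (show charDegree (χ : G → ℂ) < 2 * p from not_le.1 h)
  rw [hC] at this
  exact hc1 ((Nat.mul_eq_left (Fact.out : p.Prime).ne_zero).1 this)

end Members

/-- The squares excluded for an automizer of order two. -/
theorem no_two [IsSimpleGroup G] (X : Ctx G) (S : Small.Shape P 2) (hp : p = 5 ∨ p = 11) {c M : ℕ}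
    {qs : List ℕ} (hC : Nat.card C[(P : Subgroup G)] = p * c) (hc1 : c ≠ 1) (hc : c ∈ qs)
    (hM : M ∣ ord24) (hdvd : ∀ χ ∈ S.Z, dg χ ∣ M) (hsq : ¬ p * p ∣ Nat.card G)
    (hchk : pairTest p (2 * p) M qs = true) : False := by
  have hp23 : p ≠ 23 := by omega
  have hp2 : p ≠ 2 := by omega
  have hodd : p % 2 = 1 := by omega
  have h1 : Small.one' G ∈ S.X := S.one_mem_X (by omega)
  obtain ⟨χ, hχe⟩ := Finset.card_eq_one.1 (show (S.X.erase (Small.one' G)).card = 1 by
    rw [Finset.card_erase_of_mem h1, S.card_X])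
  have hm : χ ∈ S.X.erase (Small.one' G) := hχe ▸ Finset.mem_singleton_self χ
  obtain ⟨hne, hχX⟩ := Finset.mem_erase.1 hm
  have hχ : χ ∈ S.Z := S.mem_Z.2 (Or.inr hχX)
  have hθ1 : S.θ ≠ Small.one' G := S.θ_ne_one (by omega)
  have hθ : S.θ ∈ S.Z := S.mem_Z.2 (Or.inl rfl)
  have hsum : ∀ f : IrrCharacter G → ℤ, ∑ ψ ∈ S.Z, f ψ = f S.θ + (f (Small.one' G) + f χ) := fun f => by
    rw [S.Z_eq, Finset.sum_insert S.θ_notMem, ← Finset.add_sum_erase _ _ h1, hχe, Finset.sum_singleton]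
  obtain ⟨hcol, hiff, -⟩ := column_facts S X hp23
  have hexcθ : isExc (dg S.θ) = false := θ_not_exc S X hp23 (by rcases hp with rfl | rfl <;> norm_num)
  have hexcχ : isExc (dg χ) = false := by
    by_contra h
    rw [Bool.not_eq_false] at h
    have hmem : ∀ ψ ∈ S.Z, isExc (dg ψ) = true → ψ = χ := by
      intro ψ hψ hψe
      rcases S.mem_Z.1 hψ with rfl | hψ
      · simp [hexcθ] at hψe
      · by_cases e : ψ = Small.one' G
        · rw [e, show dg (Small.one' G) = 1 from Small.charDegree_one'] at hψe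
          exact absurd hψe (by decide)
        · exact Finset.mem_singleton.1 (hχe ▸ Finset.mem_erase.2 ⟨e, hψ⟩)
    rcases (X.exc.iff χ).1 h with e | e
    · have h2 := hiff.1 (e ▸ hχ)
      exact X.exc.ne (e.symm.trans (hmem _ h2 ((X.exc.iff _).2 (Or.inr rfl))).symm)
    · have h2 := hiff.2 (e ▸ hχ)
      exact X.exc.ne ((hmem _ h2 ((X.exc.iff _).2 (Or.inl rfl))).trans e)
  rw [hsum, sd_one, xw_one] at hcol
  have hdeg : ∑ ψ ∈ S.Z, sd S ψ = 0 := S.rel_deg
  rw [hsum, sd_one] at hdeg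
  set s := sd S χ with hs
  have hscand : s ∈ cands p 1 (2 * p) M true :=
    sd_mem_cands S X hodd hχ (by omega) one_pos (sd_modEq_X S hχX) (deg_ge S X hsq hC hc1 hχ hne)
      (hdvd χ hχ) hM fun _ => hexcχ
  have ht : sd S S.θ = -(1 + s) := by omega
  have htest := List.all_eq_true.1 hchk s hscand
  have htd : (-(1 + s)).natAbs = dg S.θ := by rw [← ht]; exact sd_natAbs S hθ
  rw [ht] at hcol
  rw [Bool.or_eq_true] at htest
  rcases htest with htest | htest
  · simp only [Bool.not_eq_true', Bool.and_eq_false_iff, htd, X.res, hexcθ, beq_eq_false_iff_ne,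
      Nat.mod_eq_zero_of_dvd (hdvd S.θ hθ)] at htest
    simp at htest
    rw [show -s + -1 = -(1 + s) by ring] at htest
    omega
  -- the square
  obtain ⟨v, hv⟩ : ∃ v : G, orderOf v = 2 := by
    haveI : Fact (Nat.Prime 2) := ⟨Nat.prime_two⟩
    exact exists_prime_orderOf_dvd_card' 2 (by rw [X.hcard]; norm_num)
  have hvp := MTwentyTwo.not_dvd_orderOf (G := G) Fact.out hp2 hv
  have hv2 : v ^ 2 = 1 := hv ▸ pow_orderOf_eq_one v
  have hv1 : v ≠ 1 := fun h => by rw [h, orderOf_one] at hv; omega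
  obtain ⟨m, -, hsqr⟩ := class_square S.card_P S hC hp2 hv
  set u := su S v χ with hu
  have hrel := su_rel S X hv hvp
  have hu1 : su S v (Small.one' G) = 1 := by
    rw [su, S.sign_one, MTwentyTwo.intVal_eq (m := 1) (by rw [Small.one'_apply]; norm_num)]; norm_num
  rw [hsum, hu1] at hrel
  have huθ : su S v S.θ = -(1 + u) := by omega
  have hT : tSum S v = 1 + (u : ℂ) * u / (s : ℂ) + ((1 + u : ℤ) : ℂ) * ((1 + u : ℤ) : ℂ) / ((-(1 + s) : ℤ) : ℂ) := by
    rw [tSum_eq S X hv, S.Z_eq, Finset.sum_insert S.θ_notMem, ← Finset.add_sum_erase _ _ h1, hχe,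
      Finset.sum_singleton, huθ, ht, hu1, sd_one, ← hu, ← hs]
    push_cast; ring
  have hlt : u.natAbs < s.natAbs := by
    rw [hu, hs, sd_natAbs S hχ]
    have := MTwentyTwo.natAbs_intVal_lt (not_cyclic X hv) hne hv2 hv1
    rcases S.sign χ hχ with h | h <;> simpa [su, h] using this
  have hs0 : (s : ℂ) ≠ 0 := Int.cast_ne_zero.2 (sd_ne_zero S hχ)
  have hs1 : ((-(1 + s) : ℤ) : ℂ) ≠ 0 := Int.cast_ne_zero.2 (by rw [← ht]; exact sd_ne_zero S hθ)
  set Cv := Nat.card (Subgroup.centralizer ({v} : Set G))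
  have key : ((p * m * m : ℕ) : ℤ) * (Cv : ℤ) ^ 2 * (s * (1 + s)) = (c : ℤ) * (ord24 : ℤ) * ((s - u) * (s - u)) := by
    have : ((((p * m * m : ℕ) : ℤ) * (Cv : ℤ) ^ 2 * (s * (1 + s)) : ℤ) : ℂ) =
        (((c : ℤ) * (ord24 : ℤ) * ((s - u) * (s - u)) : ℤ) : ℂ) := by
      push_cast
      push_cast at hsqr hT hs1
      rw [hsqr, hT, X.hcard]
      have hs1' : (1 : ℂ) + (s : ℂ) ≠ 0 := fun h => hs1 (by rw [← neg_zero, ← h])
      field_simp
      ring
    exact_mod_cast this
  have hne0 : s - u ≠ 0 := fun h => by rw [sub_eq_zero] at h; omega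
  set A : ℤ := (p : ℤ) * (c : ℤ) * (ord24 : ℤ) * (s * (1 + s))
  have hA : A * ((s - u) * (s - u)) =
      ((p : ℤ) * (m : ℤ) * (Cv : ℤ) * (s * (1 + s))) * ((p : ℤ) * (m : ℤ) * (Cv : ℤ) * (s * (1 + s))) := by
    push_cast at key
    linear_combination -((p : ℤ) * (s * (1 + s))) * key
  obtain ⟨B, hB⟩ : (s - u) ∣ (p : ℤ) * (m : ℤ) * (Cv : ℤ) * (s * (1 + s)) :=
    (Int.pow_dvd_pow_iff two_ne_zero).1 ⟨A, by rw [pow_two, pow_two, ← hA]; ring⟩
  rw [hB] at hA
  refine notSq_ne (List.all_eq_true.1 htest c hc) B ?_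
  refine mul_right_cancel₀ (mul_ne_zero hne0 hne0) (hA.trans ?_)
  ring

end Cfsg.Lib.MTwentyFour.Eleven
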