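import Cfsg.Agent.Lib.MTwentyFour.Columns
import Cfsg.Agent.Lib.MTwentyFour.Mult
import Cfsg.Agent.Lib.MTwentyTwo.Count

/-!
The sum of a character over the singular elements of the centralizer of a Sylow subgroup of prime
order: it vanishes outside the principal block, and gives the averaged count of pairs of conjugate
involutions with product in the singular elements.
-/

set_option autoImplicit false
set_option linter.style.haveILetI false
set_option linter.unusedSectionVars false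

namespace Cfsg.Lib.MTwentyFour.Eleven

open Cfsg Cfsg.Lib Cfsg.Lib.Block
open scoped ComplexConjugate Classical

universe u

noncomputable local instance (priority := high) fintypeSubgroupSing {A : Type u}
    [Group A] [Fintype A] (H : Subgroup A) : Fintype H := Fintype.ofFinite H

local notation "C[" P "]" => Subgroup.centralizer (SetLike.coe P)

variable {p : ℕ} [Fact p.Prime] {G : Type u} [Group G] [Fintype G]

/-- The singular elements of the centralizer. -/
noncomputable def sing (P : Sylow p G) : Finset G :=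
  Finset.univ.filter fun g => g ∈ C[(P : Subgroup G)] ∧ p ∣ orderOf g

/-- The regular elements of the centralizer. -/
noncomputable def regs (P : Sylow p G) : Finset G :=
  Finset.univ.filter fun g => g ∈ C[(P : Subgroup G)] ∧ ¬ p ∣ orderOf g

/-- The nontrivial elements of the Sylow subgroup. -/
noncomputable def pnt (P : Sylow p G) : Finset G :=
  Finset.univ.filter fun g => g ∈ (P : Subgroup G) ∧ g ≠ 1

theorem mem_sing {P : Sylow p G} {g : G} :
    g ∈ sing P ↔ g ∈ C[(P : Subgroup G)] ∧ p ∣ orderOf g := by simp [sing]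

theorem mem_regs {P : Sylow p G} {g : G} :
    g ∈ regs P ↔ g ∈ C[(P : Subgroup G)] ∧ ¬ p ∣ orderOf g := by simp [regs]

theorem mem_pnt {P : Sylow p G} {g : G} : g ∈ pnt P ↔ g ∈ (P : Subgroup G) ∧ g ≠ 1 := by
  simp [pnt]

variable {P : Sylow p G} (hP : Nat.card (P : Subgroup G) = p)
include hP

theorem orderOf_of_mem {x : G} (hx : x ∈ (P : Subgroup G)) (hx1 : x ≠ 1) : orderOf x = p := by
  rw [← Nat.card_zpowers, Small.zpowers_eq_of_prime_card hP hx hx1, hP]

theorem centralizer_singleton_eq {x : G} (hx : x ∈ (P : Subgroup G)) (hx1 : x ≠ 1) :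
    Subgroup.centralizer ({x} : Set G) = C[(P : Subgroup G)] := by
  conv_rhs => rw [← Small.zpowers_eq_of_prime_card hP hx hx1]
  rw [Subgroup.zpowers_eq_closure, ← Subgroup.centralizer_closure]

theorem pPt_mul {x w : G} (hx : x ∈ (P : Subgroup G)) (hw : w ∈ regs P) : pPt p (x * w) = x := by
  obtain ⟨hwC, hwr⟩ := mem_regs.1 hw
  have hc : Commute x w := Subgroup.mem_centralizer_iff.1 hwC x hx
  have hd : orderOf x ∣ p := hP ▸ Subgroup.orderOf_dvd_natCard _ hx
  obtain ⟨k, -, hk⟩ := (Nat.dvd_prime_pow (Fact.out : p.Prime) (m := 1) (i := orderOf x)).1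
    (by rw [pow_one]; exact hd)
  exact (eq_pPt rfl hc hk hwr).symm

theorem pReg_mem_regs {g : G} (hg : g ∈ C[(P : Subgroup G)]) : pReg p g ∈ regs P :=
  mem_regs.2 ⟨Subgroup.zpowers_le.2 hg (pReg_mem_zpowers g), not_dvd_orderOf_pReg g⟩

theorem mul_mem_sing {x w : G} (hx : x ∈ pnt P) (hw : w ∈ regs P) : x * w ∈ sing P := by
  obtain ⟨hxP, hx1⟩ := mem_pnt.1 hx
  refine mem_sing.2 ⟨mul_mem (le_centralizer_self hP hxP) (mem_regs.1 hw).1, ?_⟩
  by_contra h
  exact hx1 ((pPt_mul hP hxP hw).symm.trans ((pPt_eq_one_iff _).2 h))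

theorem pPt_mem_pnt {g : G} (hg : g ∈ sing P) : pPt p g ∈ pnt P := by
  obtain ⟨hgC, hgd⟩ := mem_sing.1 hg
  exact mem_pnt.2 ⟨pPt_mem_of_cent P ⟨g, hgC⟩, fun h => (pPt_eq_one_iff g).1 h hgd⟩

theorem sum_sing {M : Type*} [AddCommMonoid M] (f : G → M) :
    ∑ h ∈ sing P, f h = ∑ x ∈ pnt P, ∑ w ∈ regs P, f (x * w) := by
  rw [← Finset.sum_product']
  refine (Finset.sum_nbij' (fun q : G × G => q.1 * q.2) (fun g => (pPt p g, pReg p g)) ?_ ?_ ?_ ?_ ?_).symm
  · intro q hq
    obtain ⟨h1, h2⟩ := Finset.mem_product.1 hq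
    exact mul_mem_sing hP h1 h2
  · intro g hg
    exact Finset.mem_product.2 ⟨pPt_mem_pnt hP hg, pReg_mem_regs hP (mem_sing.1 hg).1⟩
  · intro q hq
    obtain ⟨h1, h2⟩ := Finset.mem_product.1 hq
    have e := pPt_mul hP (mem_pnt.1 h1).1 h2
    refine Prod.ext e ?_
    have h := pPt_mul_pReg (p := p) (q.1 * q.2)
    rw [e] at h
    exact mul_left_cancel h
  · intro g _
    exact pPt_mul_pReg g
  · intro q _
    rfl

theorem card_pnt : (pnt P).card = p - 1 := by
  rw [show pnt P = (Finset.univ.filter (· ∈ (P : Subgroup G))).erase 1 by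
    ext g; simp [pnt, and_comm], Finset.card_erase_of_mem (by simp),
    ← Fintype.card_subtype, ← Nat.card_eq_fintype_card, hP]

theorem card_sing : (sing P).card = (p - 1) * (regs P).card := by
  rw [Finset.card_eq_sum_ones, sum_sing hP, Finset.sum_const, Finset.sum_const, card_pnt hP,
    smul_eq_mul, smul_eq_mul, mul_one]

theorem sum_cent {M : Type*} [AddCommMonoid M] (f : G → M) :
    ∑ g : C[(P : Subgroup G)], f (g : G) = (∑ h ∈ sing P, f h) + ∑ w ∈ regs P, f w := by
  rw [← Finset.sum_subtype (Finset.univ.filter (· ∈ C[(P : Subgroup G)])) (by simp) f,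
    ← Finset.sum_filter_add_sum_filter_not (Finset.univ.filter (· ∈ C[(P : Subgroup G)]))
      (fun g => p ∣ orderOf g)]
  simp only [Finset.filter_filter]
  rfl

theorem card_regs {c : ℕ} (hC : Nat.card C[(P : Subgroup G)] = p * c) : (regs P).card = c := by
  have h := sum_cent hP (fun _ => (1 : ℕ))
  simp only [Finset.sum_const, smul_eq_mul, mul_one, Finset.card_univ] at h
  rw [← Nat.card_eq_fintype_card, hC, card_sing hP] at h
  have hp := (Fact.out : p.Prime).one_lt
  refine (Nat.eq_of_mul_eq_mul_left (show 0 < p by omega) ?_).symm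
  rw [h]
  calc _ = (p - 1 + 1) * (regs P).card := by ring
    _ = _ := by rw [Nat.sub_add_cancel hp.le]

theorem conj_mem_sing {g n : G} (hg : g ∈ sing P)
    (hn : n ∈ Subgroup.normalizer ((P : Subgroup G) : Set G)) : n * g * n⁻¹ ∈ sing P := by
  obtain ⟨hgC, hgd⟩ := mem_sing.1 hg
  refine mem_sing.2 ⟨Subgroup.mem_centralizer_iff.2 fun x hx => ?_, ?_⟩
  · have hx' : n⁻¹ * x * n ∈ (P : Subgroup G) := (Subgroup.mem_normalizer_iff''.1 hn x).1 hx
    have := Subgroup.mem_centralizer_iff.1 hgC _ hx'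
    calc x * (n * g * n⁻¹) = n * (n⁻¹ * x * n * g) * n⁻¹ := by group
      _ = n * (g * (n⁻¹ * x * n)) * n⁻¹ := by rw [this]
      _ = n * g * n⁻¹ * x := by group
  · rwa [show orderOf (n * g * n⁻¹) = orderOf g from (MulAut.conj n).orderOf_eq g]

theorem mem_normalizer_of_conj {g a : G} (hg : g ∈ sing P) (ha : a * g * a⁻¹ ∈ sing P) :
    a ∈ Subgroup.normalizer ((P : Subgroup G) : Set G) := by
  obtain ⟨hx, hx1⟩ := mem_pnt.1 (pPt_mem_pnt hP hg)
  obtain ⟨hy, -⟩ := mem_pnt.1 (pPt_mem_pnt hP ha)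
  rw [pPt_conj] at hy
  refine Subgroup.mem_normalizer_fintype fun v hv => ?_
  rw [SetLike.mem_coe, ← Small.zpowers_eq_of_prime_card hP hx hx1] at hv
  obtain ⟨i, rfl⟩ := Subgroup.mem_zpowers_iff.1 hv
  rw [SetLike.mem_coe, ← conj_zpow]
  exact zpow_mem hy i

theorem conj_count {g : G} (hg : g ∈ sing P) :
    ((sing P).filter fun h => IsConj g h).card * Nat.card (Subgroup.centralizer ({g} : Set G)) =
      Nat.card (Subgroup.normalizer ((P : Subgroup G) : Set G)) := by
  set N := Subgroup.normalizer ((P : Subgroup G) : Set G)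
  have hgN : g ∈ N := Subgroup.centralizer_le_normalizer _ (mem_sing.1 hg).1
  set gN : N := ⟨g, hgN⟩
  have hset : ((sing P).filter fun h => IsConj g h).card = (Char.classFinset gN).card := by
    refine (Finset.card_bij (fun (h : N) _ => (h : G)) ?_ ?_ ?_).symm
    · intro h hh
      obtain ⟨a, rfl⟩ := isConj_iff.1 (Char.mem_classFinset.1 hh)
      exact Finset.mem_filter.2 ⟨conj_mem_sing hP hg a.2, isConj_iff.2 ⟨a, rfl⟩⟩
    · intro a _ b _ e
      exact Subtype.ext e
    · intro h hh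
      obtain ⟨hs, hc⟩ := Finset.mem_filter.1 hh
      obtain ⟨a, rfl⟩ := isConj_iff.1 hc
      have ha : a ∈ N := mem_normalizer_of_conj hP hg hs
      exact ⟨⟨a * g * a⁻¹, mul_mem (mul_mem ha hgN) (inv_mem ha)⟩,
        Char.mem_classFinset.2 (isConj_iff.2 ⟨⟨a, ha⟩, rfl⟩), rfl⟩
  have hcent : Nat.card (Subgroup.centralizer ({g} : Set G)) =
      Nat.card (Subgroup.centralizer ({gN} : Set N)) := by
    have e : Subgroup.centralizer ({g} : Set G) =
        (Subgroup.centralizer ({gN} : Set N)).map N.subtype := by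
      ext a
      rw [Subgroup.mem_centralizer_singleton_iff]
      constructor
      · intro h
        have ha : a ∈ N := mem_normalizer_of_conj hP hg (by rwa [h, mul_inv_cancel_right])
        exact ⟨⟨a, ha⟩, Subgroup.mem_centralizer_singleton_iff.2 (Subtype.ext h), rfl⟩
      · rintro ⟨a, ha, rfl⟩
        exact congrArg Subtype.val (Subgroup.mem_centralizer_singleton_iff.1 ha)
    rw [e, Subgroup.card_map_of_injective N.subtype_injective]
  rw [hset, hcent, Char.card_classFinset, Subgroup.index_mul_card]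

theorem card_normalizer {e c : ℕ} (hC : Nat.card C[(P : Subgroup G)] = p * c)
    (he : (C[(P : Subgroup G)]).relIndex (Subgroup.normalizer ((P : Subgroup G) : Set G)) = e) :
    Nat.card (Subgroup.normalizer ((P : Subgroup G) : Set G)) = e * (p * c) := by
  have h2 := Subgroup.card_mul_index ((C[(P : Subgroup G)]).subgroupOf
    (Subgroup.normalizer ((P : Subgroup G) : Set G)))
  rw [Nat.card_congr (Subgroup.subgroupOfEquivOfLe (Subgroup.centralizer_le_normalizer _)).toEquiv,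
    hC] at h2
  rw [← h2, ← he, mul_comm]
  rfl

omit hP in
/-- The sum over the singular elements. -/
noncomputable def sSum (P : Sylow p G) (χ : IrrCharacter G) : ℂ := ∑ h ∈ sing P, (χ : G → ℂ) h

omit hP in
/-- The signed weighted square sum of the values at an element. -/
noncomputable def tSum {e : ℕ} (S : Small.Shape P e) (v : G) : ℂ :=
  ∑ χ ∈ S.Z, (S.σ χ : ℂ) * ((χ : G → ℂ) v * (χ : G → ℂ) v / (χ : G → ℂ) 1)

variable {e c : ℕ} (S : Small.Shape P e) (hC : Nat.card C[(P : Subgroup G)] = p * c)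
include S hC

theorem sum_sSum_sq :
    ∑ χ : IrrCharacter G, sSum P χ * conj (sSum P χ) = (((p - 1) * c * (e * (p * c)) : ℕ) : ℂ) := by
  simp only [sSum, map_sum, Finset.sum_mul, Finset.mul_sum]
  rw [Finset.sum_comm, Finset.sum_congr rfl fun (h : G) _ => Finset.sum_comm]
  simp only [Char.column_orthogonality]
  rw [Finset.sum_comm, Finset.sum_congr (rfl : sing P = sing P) (g := fun _ => ((e * (p * c) : ℕ) : ℂ)) fun h hh => ?_,
    Finset.sum_const, card_sing hP, card_regs hP hC, nsmul_eq_mul, ← Nat.cast_mul]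
  rw [← Finset.sum_filter, Finset.sum_const, nsmul_eq_mul, ← card_normalizer hP hC S.relIndex_eq,
    ← conj_count hP hh, Nat.cast_mul]

theorem val_sing {χ : IrrCharacter G} (hχ : χ ∈ S.X) {h : G} (hh : h ∈ sing P) :
    (χ : G → ℂ) h = (S.σ χ : ℂ) := by
  obtain ⟨hx, hx1⟩ := mem_pnt.1 (pPt_mem_pnt hP hh)
  obtain ⟨hwC, hwr⟩ := mem_regs.1 (pReg_mem_regs hP (mem_sing.1 hh).1)
  rw [← pPt_mul_pReg (p := p) h]
  exact S.val χ hχ _ hx hx1 _ hwC hwr

theorem sSum_X {χ : IrrCharacter G} (hχ : χ ∈ S.X) :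
    sSum P χ = (((p - 1) * c : ℕ) : ℂ) * (S.σ χ : ℂ) := by
  rw [sSum, Finset.sum_congr rfl fun h hh => val_sing hP S hC hχ hh, Finset.sum_const,
    card_sing hP, card_regs hP hC, nsmul_eq_mul]

theorem sum_Y_sing {h : G} (hh : h ∈ sing P) :
    ∑ θ' ∈ S.Y, (θ' : G → ℂ) h = (S.σ S.θ : ℂ) := by
  have hone : ¬ p ∣ orderOf (1 : G) := by rw [orderOf_one]; exact (Fact.out : p.Prime).not_dvd_one
  have h4 := Block.sum_block_mul_conj_eq_zero S.hM (Block.vInt_indVec S.hM Block.isPBlock_principal)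
    (g := 1) (h := h) (Block.not_isConj_pPt_of_dvd hone (mem_sing.1 hh).2)
  rw [finsum_mem_eq_finite_toFinset_sum _ (principalBlock S.M G).toFinite,
    show (principalBlock S.M G).toFinite.toFinset = S.X ∪ S.Y by
      ext χ; rw [Set.Finite.mem_toFinset, Finset.mem_union]; exact S.mem_block χ,
    Finset.sum_union S.disj, Finset.sum_congr rfl fun χ hχ => by
      rw [val_sing hP S hC hχ hh, map_intCast],
    Finset.sum_congr (rfl : S.Y = S.Y) fun θ' h => by rw [S.agree θ' h 1 hone], ← Finset.mul_sum] at h4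
  have h5 := S.rel 1 hone
  rw [S.Z_eq, Finset.sum_insert S.θ_notMem] at h5
  have h6 : ∑ χ ∈ S.X, (χ : G → ℂ) 1 * (S.σ χ : ℂ) = ∑ χ ∈ S.X, (S.σ χ : ℂ) * (χ : G → ℂ) 1 :=
    Finset.sum_congr rfl fun _ _ => mul_comm _ _
  rw [h6] at h4
  have h7 : ∑ θ' ∈ S.Y, conj ((θ' : G → ℂ) h) = (S.σ S.θ : ℂ) := by
    apply mul_left_cancel₀ S.θ.2.apply_one_ne_zero
    linear_combination h4 - h5
  have := congrArg conj h7
  simpa [map_sum] using this

theorem sum_sSum_Y :
    ∑ θ' ∈ S.Y, sSum P θ' = (((p - 1) * c : ℕ) : ℂ) * (S.σ S.θ : ℂ) := by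
  simp only [sSum]
  rw [Finset.sum_comm, Finset.sum_congr rfl fun h hh => sum_Y_sing hP S hC hh, Finset.sum_const,
    card_sing hP, card_regs hP hC, nsmul_eq_mul]

theorem sSum_props :
    (∀ θ' ∈ S.Y, sSum P θ' = ((e * c : ℕ) : ℂ) * (S.σ S.θ : ℂ)) ∧
      ∀ χ, χ ∉ S.X → χ ∉ S.Y → sSum P χ = 0 := by
  set a : ℂ := ((e * c : ℕ) : ℂ) * (S.σ S.θ : ℂ) with ha
  have hs : (S.σ S.θ : ℂ) * (S.σ S.θ : ℂ) = 1 := by
    rcases S.sign S.θ (S.mem_Z.2 (Or.inl rfl)) with h | h <;> simp [h]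
  have hsX : ∀ χ ∈ S.X, (S.σ χ : ℂ) * (S.σ χ : ℂ) = 1 := fun χ hχ => by
    rcases S.sign χ (S.mem_Z.2 (Or.inr hχ)) with h | h <;> simp [h]
  have hpe : e * ((p - 1) / e) = p - 1 := Nat.mul_div_cancel' S.e_dvd
  set t := (p - 1) / e
  have hY := sum_sSum_Y hP S hC
  have hca : conj a = a := by simp [ha]
  have htot := sum_sSum_sq hP S hC
  rw [← Finset.sum_add_sum_compl (S.X ∪ S.Y), Finset.sum_union S.disj,
    Finset.sum_congr (rfl : S.X = S.X) (g := fun _ => ((((p - 1) * c) * ((p - 1) * c) : ℕ) : ℂ))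
      fun χ hχ => by
        rw [sSum_X hP S hC hχ, map_mul, map_natCast, map_intCast, mul_mul_mul_comm, hsX χ hχ,
          mul_one, Nat.cast_mul ((p - 1) * c)],
    Finset.sum_const, S.card_X, nsmul_eq_mul] at htot
  have hdev : ∑ θ' ∈ S.Y, (sSum P θ' - a) * conj (sSum P θ' - a) +
      ∑ χ ∈ (S.X ∪ S.Y)ᶜ, sSum P χ * conj (sSum P χ) = 0 := by
    have hexp : ∑ θ' ∈ S.Y, (sSum P θ' - a) * conj (sSum P θ' - a) =
        ∑ θ' ∈ S.Y, sSum P θ' * conj (sSum P θ') - a * conj (∑ θ' ∈ S.Y, sSum P θ') -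
          a * (∑ θ' ∈ S.Y, sSum P θ') + (t : ℂ) * (a * a) := by
      rw [map_sum, Finset.mul_sum, Finset.mul_sum, ← Finset.sum_sub_distrib, ← Finset.sum_sub_distrib,
        show (t : ℂ) * (a * a) = ∑ _θ' ∈ S.Y, a * a by rw [Finset.sum_const, S.card_Y, nsmul_eq_mul],
        ← Finset.sum_add_distrib]
      exact Finset.sum_congr rfl fun θ' _ => by rw [map_sub, hca]; ring
    rw [hexp, hY, map_mul, map_natCast, map_intCast, ha]
    have hp1 : 1 ≤ p := (Fact.out : p.Prime).one_lt.le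
    push_cast [Nat.cast_sub hp1] at htot ⊢
    have hpe' : (e : ℂ) * (t : ℂ) = (p : ℂ) - 1 := by
      rw [← Nat.cast_mul, hpe, Nat.cast_sub hp1, Nat.cast_one]
    linear_combination htot + ((e : ℂ) * c * c * ((e : ℂ) * t - 2 * ((p : ℂ) - 1))) * hs +
      ((e : ℂ) * c * c) * hpe'
  have hre : ∀ z : ℂ, z * conj z = ((‖z‖ ^ 2 : ℝ) : ℂ) := fun z => by
    rw [Complex.mul_conj']; push_cast; rfl
  simp only [hre] at hdev
  rw [← Complex.ofReal_sum, ← Complex.ofReal_sum, ← Complex.ofReal_add, Complex.ofReal_eq_zero,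
    add_eq_zero_iff_of_nonneg (Finset.sum_nonneg fun _ _ => sq_nonneg _)
      (Finset.sum_nonneg fun _ _ => sq_nonneg _),
    Finset.sum_eq_zero_iff_of_nonneg (fun _ _ => sq_nonneg _),
    Finset.sum_eq_zero_iff_of_nonneg (fun _ _ => sq_nonneg _)] at hdev
  refine ⟨fun θ' h => sub_eq_zero.1 (norm_eq_zero.1 ((pow_eq_zero_iff two_ne_zero).1 (hdev.1 θ' h))),
    fun χ hX hY' => norm_eq_zero.1 ((pow_eq_zero_iff two_ne_zero).1 (hdev.2 χ ?_))⟩
  simp [hX, hY']

theorem sSum_Z {χ : IrrCharacter G} (hχ : χ ∈ S.Z) :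
    sSum P χ = ((if χ = S.θ then e * c else (p - 1) * c : ℕ) : ℂ) * (S.σ χ : ℂ) := by
  rcases S.mem_Z.1 hχ with rfl | h
  · rw [if_pos rfl]; exact (sSum_props hP S hC).1 _ S.θ_mem
  · rw [if_neg fun e1 : χ = S.θ => S.θ_notMem (e1 ▸ h)]; exact sSum_X hP S hC h

/-- A character that takes a nonzero singular sum lies in the principal family. -/
theorem mem_of_sSum_ne {χ : IrrCharacter G} (h : sSum P χ ≠ 0) : χ ∈ S.X ∨ χ ∈ S.Y := by
  by_contra hn
  push Not at hn
  exact h ((sSum_props hP S hC).2 χ hn.1 hn.2)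

theorem sum_class {v : G} (hv : ¬ p ∣ orderOf v) :
    ∑ χ : IrrCharacter G, (χ : G → ℂ) v * (χ : G → ℂ) v * conj (sSum P χ) / (χ : G → ℂ) 1 =
      (((p - 1) * c : ℕ) : ℂ) * tSum S v := by
  have hone : ¬ p ∣ orderOf (1 : G) := by rw [orderOf_one]; exact (Fact.out : p.Prime).not_dvd_one
  rw [← Finset.sum_subset (Finset.subset_univ (S.X ∪ S.Y)) fun χ _ hχ => by
      rw [(sSum_props hP S hC).2 χ (fun h => hχ (Finset.mem_union_left _ h))
        (fun h => hχ (Finset.mem_union_right _ h)), map_zero, mul_zero, zero_div],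
    Finset.sum_union S.disj,
    Finset.sum_congr (rfl : S.Y = S.Y) fun θ' h => by rw [S.agree θ' h v hv, S.agree θ' h 1 hone],
    ← Finset.sum_div, ← Finset.mul_sum, ← map_sum, sum_sSum_Y hP S hC, tSum, S.Z_eq,
    Finset.sum_insert S.θ_notMem, mul_add, Finset.mul_sum, map_mul, map_natCast, map_intCast, add_comm]
  congr 1
  · ring
  · refine Finset.sum_congr rfl fun χ h => ?_
    rw [sSum_X hP S hC h, map_mul, map_natCast, map_intCast]
    ring

omit S hC in
/-- The members of the class of `v` inverting the Sylow subgroup. -/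
theorem inverters_spec {v : G} (hv : v ^ 2 = 1) {a b : G} (ha : IsConj v a) (hb : IsConj v b)
    (hab : a * b ∈ sing P) :
    (∀ x ∈ (P : Subgroup G), a * x * a⁻¹ = x⁻¹) ∧ ∀ x ∈ (P : Subgroup G), b * x * b⁻¹ = x⁻¹ := by
  have haa := MTwentyTwo.sq_eq_one_of_isConj hv ha
  have hbb := MTwentyTwo.sq_eq_one_of_isConj hv hb
  obtain ⟨hx, hx1⟩ := mem_pnt.1 (pPt_mem_pnt hP hab)
  have key : ∀ g : G, g * (a * b) * g⁻¹ = (a * b)⁻¹ → ∀ x ∈ (P : Subgroup G), g * x * g⁻¹ = x⁻¹ := by
    intro g hg x hxP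
    have h := congrArg (pPt p) hg
    rw [pPt_conj, pPt_inv] at h
    rw [← Small.zpowers_eq_of_prime_card hP hx hx1] at hxP
    obtain ⟨i, rfl⟩ := Subgroup.mem_zpowers_iff.1 hxP
    rw [← conj_zpow, h, inv_zpow]
  refine ⟨key a ?_, key b ?_⟩
  · rw [mul_inv_rev, MTwentyTwo.inv_eq_self haa, MTwentyTwo.inv_eq_self hbb, ← mul_assoc, ← pow_two,
      haa, one_mul]
  · rw [mul_inv_rev, MTwentyTwo.inv_eq_self haa, MTwentyTwo.inv_eq_self hbb]
    calc b * (a * b) * b = b * a * (b ^ 2) := by rw [pow_two]; group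
      _ = b * a := by rw [hbb, mul_one]

omit S hC in
theorem inverter_mul (hp2 : p ≠ 2) {v a x : G} (ha : IsConj v a)
    (hinv : ∀ y ∈ (P : Subgroup G), a * y * a⁻¹ = y⁻¹) (hx : x ∈ (P : Subgroup G)) :
    IsConj v (a * x) ∧ ∀ y ∈ (P : Subgroup G), a * x * y * (a * x)⁻¹ = y⁻¹ := by
  have hord : orderOf x ∣ p := hP ▸ Subgroup.orderOf_dvd_natCard _ hx
  obtain ⟨m, hm⟩ := exists_pow_eq_self_of_coprime (x := x) (n := 2)
    ((Nat.Prime.coprime_iff_not_dvd Nat.prime_two).2 fun h2 => hp2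
      ((Nat.prime_dvd_prime_iff_eq Nat.prime_two Fact.out).1 (h2.trans hord)).symm)
  rw [← pow_mul, mul_comm, pow_mul] at hm
  have hw : x ^ m ∈ (P : Subgroup G) := pow_mem hx m
  have haw := hinv _ hw
  refine ⟨ha.trans (isConj_iff.2 ⟨(x ^ m)⁻¹, ?_⟩), fun y hy => ?_⟩
  · rw [inv_inv]
    conv_rhs => rw [← hm]
    rw [← haw, pow_two]
    group
  · have hc : x * y * x⁻¹ = y := by
      rw [Subgroup.mem_centralizer_iff.1 (le_centralizer_self hP hy) x hx, mul_inv_cancel_right]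
    calc a * x * y * (a * x)⁻¹ = a * (x * y * x⁻¹) * a⁻¹ := by group
      _ = y⁻¹ := by rw [hc, hinv y hy]

/-- The averaged count of pairs in the class of an involution with singular product, with the number
of inverting members. -/
theorem class_square_card (hp2 : p ≠ 2) {v : G} (hv : orderOf v = 2) :
    ∃ m : ℕ, (2 ∣ e ∨ m = 0) ∧
      ((p * m * m : ℕ) : ℂ) * (Nat.card (Subgroup.centralizer ({v} : Set G)) : ℂ) ^ 2 =
        (c : ℂ) * (Nat.card G : ℂ) * tSum S v ∧
      ((Char.classFinset v).filter fun a =>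
        ∀ x ∈ (P : Subgroup G), a * x * a⁻¹ = x⁻¹).card = p * m := by
  have hv2 : v ^ 2 = 1 := hv ▸ pow_orderOf_eq_one v
  have hvp := MTwentyTwo.not_dvd_orderOf (G := G) Fact.out hp2 hv
  set I := (Char.classFinset v).filter fun a => ∀ x ∈ (P : Subgroup G), a * x * a⁻¹ = x⁻¹ with hI
  have hmI : ∀ {a}, a ∈ I ↔ IsConj v a ∧ ∀ x ∈ (P : Subgroup G), a * x * a⁻¹ = x⁻¹ := by
    intro a; simp [hI, Char.mem_classFinset]
  set R := (I ×ˢ I).filter fun q => q.1 * q.2 ∈ regs P with hR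
  set A := (I ×ˢ I).filter fun q => q.1 * q.2 ∈ sing P with hA
  have hC' : ∀ q ∈ I ×ˢ I, q.1 * q.2 ∈ C[(P : Subgroup G)] := by
    intro q hq
    obtain ⟨h1, h2⟩ := Finset.mem_product.1 hq
    refine Subgroup.mem_centralizer_iff.2 fun x hx => ?_
    have : q.1 * q.2 * x * (q.1 * q.2)⁻¹ = x := by
      calc q.1 * q.2 * x * (q.1 * q.2)⁻¹ = q.1 * (q.2 * x * q.2⁻¹) * q.1⁻¹ := by group
        _ = x := by rw [(hmI.1 h2).2 x hx, (hmI.1 h1).2 _ (inv_mem hx), inv_inv]
    exact (mul_inv_eq_iff_eq_mul.1 this).symm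
  have hsplit : A.card + R.card = I.card * I.card := by
    rw [← Finset.card_product, hA, hR,
      Finset.filter_congr (q := fun q => p ∣ orderOf (q.1 * q.2)) fun q hq => by
        rw [mem_sing]; exact and_iff_right (hC' q hq),
      Finset.filter_congr (s := I ×ˢ I) (p := fun q => q.1 * q.2 ∈ regs P)
        (q := fun q => ¬ p ∣ orderOf (q.1 * q.2)) fun q hq => by
        rw [mem_regs]; exact and_iff_right (hC' q hq)]
    exact Finset.card_filter_add_card_filter_not _
  have hIR : I.card * I.card = p * R.card := by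
    rw [← Finset.card_product,
      show p * R.card = ((Finset.univ.filter (· ∈ (P : Subgroup G))) ×ˢ R).card by
        rw [Finset.card_product, ← Fintype.card_subtype, ← Nat.card_eq_fintype_card, hP]]
    refine Finset.card_nbij' (fun q => (pPt p (q.1 * q.2), (q.1, q.2 * (pPt p (q.1 * q.2))⁻¹)))
      (fun r => (r.2.1, r.2.2 * r.1)) ?_ ?_ ?_ ?_
    · intro q hq
      obtain ⟨h1, h2⟩ := Finset.mem_product.1 hq
      have hx : pPt p (q.1 * q.2) ∈ (P : Subgroup G) := pPt_mem_of_cent P ⟨_, hC' q hq⟩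
      refine Finset.mem_product.2 ⟨by simp [hx], Finset.mem_filter.2 ⟨Finset.mem_product.2 ⟨h1,
        hmI.2 (inverter_mul hP hp2 (hmI.1 h2).1 (hmI.1 h2).2 (inv_mem hx))⟩, ?_⟩⟩
      show q.1 * (q.2 * (pPt p (q.1 * q.2))⁻¹) ∈ regs P
      have e1 : q.1 * (q.2 * (pPt p (q.1 * q.2))⁻¹) = pReg p (q.1 * q.2) := by
        rw [← mul_assoc, mul_inv_eq_iff_eq_mul, ← (pPt_commute_pReg _).eq, pPt_mul_pReg]
      rw [e1]
      exact pReg_mem_regs hP (hC' q hq)
    · intro r hr
      obtain ⟨hx, hr⟩ := Finset.mem_product.1 hr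
      obtain ⟨hr, -⟩ := Finset.mem_filter.1 hr
      obtain ⟨h1, h2⟩ := Finset.mem_product.1 hr
      exact Finset.mem_product.2 ⟨h1, hmI.2 (inverter_mul hP hp2 (hmI.1 h2).1 (hmI.1 h2).2
        (Finset.mem_filter.1 hx).2)⟩
    · intro q _
      simp
    · intro r hr
      obtain ⟨hx, hr⟩ := Finset.mem_product.1 hr
      have hx' := (Finset.mem_filter.1 hx).2
      obtain ⟨hr, hreg⟩ := Finset.mem_filter.1 hr
      have hc : Commute r.1 (r.2.1 * r.2.2) :=
        Subgroup.mem_centralizer_iff.1 (hC' r.2 hr) r.1 hx'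
      have e1 : pPt p (r.2.1 * (r.2.2 * r.1)) = r.1 := by
        rw [← mul_assoc, ← hc.eq]; exact pPt_mul hP hx' hreg
      simp [e1]
  have hpI : p ∣ I.card := ((Fact.out : p.Prime).dvd_mul.1 (hIR ▸ dvd_mul_right p R.card)).elim id id
  obtain ⟨m, hm⟩ := hpI
  refine ⟨m, ?_, ?_, hm⟩
  · rcases I.eq_empty_or_nonempty with h0 | ⟨a, ha⟩
    · right
      rw [h0, Finset.card_empty] at hm
      exact (mul_eq_zero.1 hm.symm).resolve_left (Fact.out : p.Prime).ne_zero
    · left
      obtain ⟨hva, hinv⟩ := hmI.1 ha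
      set N := Subgroup.normalizer ((P : Subgroup G) : Set G)
      have haN : a ∈ N := Subgroup.mem_normalizer_fintype fun x hx => by
        rw [SetLike.mem_coe, hinv x hx]; exact inv_mem hx
      set K := (C[(P : Subgroup G)]).subgroupOf N with hK
      haveI : K.Normal := by
        rw [hK, ← Subgroup.normalizerMonoidHom_ker]
        infer_instance
      by_contra hodd
      have h1 : orderOf (QuotientGroup.mk' K ⟨a, haN⟩) ∣ 2 := orderOf_dvd_of_pow_eq_one (by
        rw [← map_pow]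
        have : (⟨a, haN⟩ : N) ^ 2 = 1 := Subtype.ext (MTwentyTwo.sq_eq_one_of_isConj hv2 hva)
        rw [this, map_one])
      have h2 : orderOf (QuotientGroup.mk' K ⟨a, haN⟩) ∣ e :=
        (_root_.orderOf_dvd_natCard _).trans (dvd_of_eq S.relIndex_eq)
      have h3 := Nat.eq_one_of_dvd_coprimes ((Nat.Prime.coprime_iff_not_dvd Nat.prime_two).2 hodd) h1 h2
      rw [orderOf_eq_one_iff, ← MonoidHom.mem_ker, QuotientGroup.ker_mk', hK,
        Subgroup.mem_subgroupOf] at h3
      haveI : Nontrivial (P : Subgroup G) := by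
        rw [← Finite.one_lt_card_iff_nontrivial, hP]; exact (Fact.out : p.Prime).one_lt
      obtain ⟨⟨x, hx⟩, hx1⟩ := exists_ne (1 : (P : Subgroup G))
      have hxx : x⁻¹ = x := by
        rw [← hinv x hx, ← Subgroup.mem_centralizer_iff.1 h3 x hx, mul_inv_cancel_right]
      have hx2 : x ^ 2 = 1 := by rw [pow_two]; nth_rewrite 1 [← hxx]; exact inv_mul_cancel x
      exact hp2 ((Nat.prime_dvd_prime_iff_eq Fact.out Nat.prime_two).1
        (orderOf_of_mem hP hx (fun e' => hx1 (Subtype.ext e')) ▸ orderOf_dvd_of_pow_eq_one hx2))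
  · have hcl : ((Char.classFinset v).card : ℂ) *
        (Nat.card (Subgroup.centralizer ({v} : Set G)) : ℂ) = (Nat.card G : ℂ) := by
      rw [Char.card_classFinset, ← Nat.cast_mul, mul_comm, Subgroup.card_mul_index]
    have hG : (Nat.card G : ℂ) ≠ 0 := Nat.cast_ne_zero.2 Nat.card_pos.ne'
    have hcount : A.card = ∑ h ∈ sing P,
        ((Char.classFinset v ×ˢ Char.classFinset v).filter fun q => q.1 * q.2 = h).card := by
      rw [Finset.card_eq_sum_card_fiberwise (s := A) (f := fun q : G × G => q.1 * q.2) (t := sing P)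
        (fun q hq => Finset.mem_coe.2 (Finset.mem_filter.1 (Finset.mem_coe.1 hq)).2)]
      refine Finset.sum_congr rfl fun h hh => congrArg Finset.card ?_
      ext ⟨a, b⟩
      simp only [hA, hI, Finset.mem_filter, Finset.mem_product, Char.mem_classFinset]
      constructor
      · rintro ⟨⟨⟨⟨h1, -⟩, h2, -⟩, -⟩, h3⟩
        exact ⟨⟨h1, h2⟩, h3⟩
      · rintro ⟨⟨h1, h2⟩, rfl⟩
        obtain ⟨i1, i2⟩ := inverters_spec hP hv2 h1 h2 hh
        exact ⟨⟨⟨⟨h1, i1⟩, h2, i2⟩, hh⟩, rfl⟩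
    have hkey : (A.card : ℂ) = ((Char.classFinset v).card : ℂ) * (Char.classFinset v).card /
        (Nat.card G : ℂ) * ((((p - 1) * c : ℕ) : ℂ) * tSum S v) := by
      rw [hcount, Nat.cast_sum, Finset.sum_congr rfl fun (h : G) _ => Char.card_class_product v v h,
        ← Finset.mul_sum, Finset.sum_comm, ← sum_class hP S hC hvp]
      congr 1
      refine Finset.sum_congr rfl fun χ _ => ?_
      rw [sSum, map_sum, Finset.mul_sum, Finset.sum_div]
    have hRm : R.card = p * m * m := by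
      refine Nat.eq_of_mul_eq_mul_left (Fact.out : p.Prime).pos ?_
      rw [← hIR, hm]; ring
    have hA' : (A.card : ℂ) = ((p : ℂ) - 1) * ((p * m * m : ℕ) : ℂ) := by
      have : A.card + p * m * m = p * (p * m * m) := by rw [← hRm, hsplit, hIR]
      have h' : (A.card : ℂ) + ((p * m * m : ℕ) : ℂ) = (p : ℂ) * ((p * m * m : ℕ) : ℂ) := by
        exact_mod_cast this
      linear_combination h'
    have hp1 : (p : ℂ) - 1 ≠ 0 := sub_ne_zero.2 (by exact_mod_cast (Fact.out : p.Prime).ne_one)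
    apply mul_left_cancel₀ hp1
    apply mul_left_cancel₀ hG
    rw [hA', Nat.cast_mul (p - 1) c, Nat.cast_sub (Fact.out : p.Prime).one_lt.le, Nat.cast_one] at hkey
    field_simp at hkey
    linear_combination ((p : ℂ) - 1) * (Nat.card (Subgroup.centralizer ({v} : Set G)) : ℂ) ^ 2 * hkey +
      ((p : ℂ) - 1) * (c : ℂ) * tSum S v *
        (((Char.classFinset v).card : ℂ) * (Nat.card (Subgroup.centralizer ({v} : Set G)) : ℂ) +
          (Nat.card G : ℂ)) * hcl

/-- The averaged count of pairs in the class of an involution with singular product. -/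
theorem class_square (hp2 : p ≠ 2) {v : G} (hv : orderOf v = 2) :
    ∃ m : ℕ, (2 ∣ e ∨ m = 0) ∧
      ((p * m * m : ℕ) : ℂ) * (Nat.card (Subgroup.centralizer ({v} : Set G)) : ℂ) ^ 2 =
        (c : ℂ) * (Nat.card G : ℂ) * tSum S v :=
  (class_square_card hP S hC hp2 hv).imp fun _ h => ⟨h.1, h.2.1⟩

end Cfsg.Lib.MTwentyFour.Eleven
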