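import Cfsg.Agent.Lib.MTwentyFour.Eleven.Singular
import Cfsg.Agent.Lib.MTwentyFour.LocalTwentyThree
import Mathlib.GroupTheory.SchurZassenhaus
import Mathlib.GroupTheory.NoncommCoprod

/-!
Elements of the normalizer of a Sylow subgroup centralizing part of its centralizer, and the
congruences and rationality for the members of a principal family.
-/

set_option autoImplicit false
set_option linter.style.haveILetI false
set_option linter.unusedSectionVars false

namespace Cfsg.Lib.MTwentyFour.Eleven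

open Cfsg Cfsg.Lib Cfsg.Lib.Block
open scoped ComplexConjugate Classical

universe u

noncomputable local instance (priority := high) fintypeSubgroupTools {A : Type u}
    [Group A] [Fintype A] (H : Subgroup A) : Fintype H := Fintype.ofFinite H

local notation "C[" P "]" => Subgroup.centralizer (SetLike.coe P)

variable {p : ℕ} [Fact p.Prime] {G : Type u} [Group G] [Fintype G] {P : Sylow p G}

/-- An element of prime order `r` of the centralizer commuting with one of prime order `q` of the
normalizer. -/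
theorem exists_commute {c r q : ℕ} (hr : r.Prime) (hq : q.Prime) (hrp : r ≠ p)
    (hC : Nat.card C[(P : Subgroup G)] = p * c)
    (hmod : r ^ c.factorization r % q ≠ 1)
    (he : q ∣ (C[(P : Subgroup G)]).relIndex (Subgroup.normalizer ((P : Subgroup G) : Set G))) :
    ∃ z a : G, orderOf z = r ∧ z ∈ C[(P : Subgroup G)] ∧ orderOf a = q ∧ Commute a z ∧
      a ∈ Subgroup.normalizer ((P : Subgroup G) : Set G) := by
  haveI := Fact.mk hr
  haveI := Fact.mk hq
  set N := Subgroup.normalizer ((P : Subgroup G) : Set G) with hN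
  set C' := (C[(P : Subgroup G)]).subgroupOf N with hC'
  haveI : C'.Normal := by
    rw [hC', ← (P : Subgroup G).normalizerMonoidHom_ker]
    exact MonoidHom.normal_ker _
  obtain ⟨S⟩ : Nonempty (Sylow r C') := inferInstance
  set R := (S : Subgroup C').map C'.subtype with hR
  set L := Subgroup.normalizer ((R : Subgroup N) : Set N) with hL
  have htop : L ⊔ C' = ⊤ := Sylow.normalizer_sup_eq_top S
  have hrel : C'.relIndex L = C'.index := by
    rw [← Subgroup.relIndex_top_right C', ← htop, Subgroup.relIndex_sup_right]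
  have hqL : q ∣ Nat.card L := by
    refine he.trans ?_
    rw [show (C[(P : Subgroup G)]).relIndex N = C'.index from rfl, ← hrel]
    exact Subgroup.index_dvd_card _
  obtain ⟨a, ha⟩ := exists_prime_orderOf_dvd_card' (G := L) q hqL
  have hC'card : Nat.card C' = p * c := by
    rw [← hC]
    exact Nat.card_congr (Subgroup.subgroupOfEquivOfLe (Subgroup.centralizer_le_normalizer _)).toEquiv
  have hc0 : c ≠ 0 := fun h => Nat.card_pos.ne' (hC'card.trans (by rw [h, mul_zero]))
  have hk : Nat.card S = r ^ c.factorization r := by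
    rw [S.card_eq_multiplicity, hC'card, Nat.factorization_mul (Fact.out : p.Prime).ne_zero hc0,
      Finsupp.add_apply, (Fact.out : p.Prime).factorization, Finsupp.single_eq_of_ne hrp, zero_add]
  generalize c.factorization r = k at hk hmod
  have hRcard : Nat.card R = r ^ k := (Subgroup.card_map_of_injective C'.subtype_injective).trans hk
  have haR : ∀ w ∈ R, ((a : N) * w * (a : N)⁻¹) ∈ R := fun w hw => (Subgroup.mem_normalizer_iff.1 a.2 w).1 hw
  let f : Function.End R := fun w => ⟨(a : N) * w * (a : N)⁻¹, haR w w.2⟩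
  have hfi : ∀ (i : ℕ) (w : R), (((f ^ i) w : R) : N) = (a : N) ^ i * w * ((a : N) ^ i)⁻¹ := by
    intro i
    induction i with
    | zero => intro w; simp; rfl
    | succ i ih =>
      intro w
      rw [pow_succ']
      show (a : N) * ((f ^ i) w : R) * (a : N)⁻¹ = _
      rw [ih, pow_succ']; group
  have haN : orderOf (a : N) = q := (Subgroup.orderOf_coe a).trans ha
  have hf : f ^ q ^ 1 = 1 := funext fun w => Subtype.ext (by
    rw [pow_one, hfi, ← haN, pow_orderOf_eq_one]; simp; rfl)
  haveI : Fintype R := Fintype.ofFinite R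
  have hfix := Equiv.Perm.card_fixedPoints_modEq (p := q) hf
  rw [← Nat.card_eq_fintype_card, hRcard] at hfix
  obtain ⟨w, hw1⟩ : ∃ w : Function.fixedPoints f, w.1 ≠ 1 := by
    by_contra hall
    push Not at hall
    haveI : Subsingleton (Function.fixedPoints f) := ⟨fun x y => Subtype.ext ((hall x).trans (hall y).symm)⟩
    haveI : Nonempty (Function.fixedPoints f) := ⟨⟨1, Subtype.ext (by
      show (a : N) * ((1 : R) : N) * (a : N)⁻¹ = ((1 : R) : N); simp)⟩⟩
    rw [← Nat.card_eq_fintype_card, Nat.card_unique, Nat.ModEq, Nat.one_mod_eq_one.2 hq.ne_one] at hfix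
    exact hmod hfix
  have hcomm : Commute (a : N) ((w.1 : R) : N) :=
    mul_inv_eq_iff_eq_mul.1 (congrArg Subtype.val w.2)
  obtain ⟨j, hj⟩ : ∃ j, orderOf (w.1 : R) = r ^ j :=
    ((Nat.dvd_prime_pow hr).1 (hRcard ▸ orderOf_dvd_natCard (w.1 : R))).imp fun j h => h.2
  have hj1 : 1 ≤ j := by
    rcases Nat.eq_zero_or_pos j with h | h
    · rw [h, pow_zero, orderOf_eq_one_iff] at hj; exact absurd hj hw1
    · exact h
  obtain ⟨i, rfl⟩ := Nat.exists_eq_add_of_le hj1
  set z := (w.1 : R) ^ (r ^ i)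
  have hz : orderOf z = r := by
    rw [orderOf_pow' _ (pow_ne_zero _ hr.ne_zero), hj, Nat.gcd_eq_right (pow_dvd_pow r (by omega)),
      pow_add, pow_one, Nat.mul_div_cancel _ (pow_pos hr.pos _)]
  refine ⟨((z : N) : G), ((a : N) : G), ?_, ?_, ?_, ?_, (a : N).2⟩
  · rw [Subgroup.orderOf_coe, Subgroup.orderOf_coe, hz]
  · obtain ⟨s, -, hs⟩ := z.2
    have : (z : N) ∈ C' := hs ▸ s.2
    exact this
  · rw [Subgroup.orderOf_coe, haN]
  · exact ((hcomm.pow_right (r ^ i)).map N.subtype)

/-- The regular elements of the centralizer form a complement of the Sylow subgroup. -/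
theorem exists_regular_subgroup {c : ℕ} (hP : Nat.card (P : Subgroup G) = p)
    (hC : Nat.card C[(P : Subgroup G)] = p * c) (hpc : ¬ p ∣ c) :
    ∃ W : Subgroup G, Nat.card W = c ∧ ∀ g, g ∈ W ↔ g ∈ regs P := by
  set D := C[(P : Subgroup G)] with hD
  set Q := (P : Subgroup G).subgroupOf D with hQ
  haveI : Q.Normal := ⟨fun v hv g => by
    rw [hQ, Subgroup.mem_subgroupOf] at hv ⊢
    rw [Subgroup.coe_mul, Subgroup.coe_mul, ← Subgroup.mem_centralizer_iff.1 g.2 _ hv,
      InvMemClass.coe_inv, mul_inv_cancel_right]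
    exact hv⟩
  have hPD : (P : Subgroup G) ≤ D := le_centralizer_self hP
  have hQc : Nat.card Q = p := by
    rw [Nat.card_congr (Subgroup.subgroupOfEquivOfLe hPD).toEquiv, hP]
  have hidx : Q.index = c := by
    have h := Q.card_mul_index
    rw [hQc, hC] at h
    exact Nat.eq_of_mul_eq_mul_left (Fact.out : p.Prime).pos h
  obtain ⟨H, hH⟩ := Subgroup.exists_right_complement'_of_coprime (N := Q)
    (by rw [hQc, hidx]; exact (Fact.out : p.Prime).coprime_iff_not_dvd.2 hpc)
  have hmul := hH.card_mul_card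
  rw [hQc, hC] at hmul
  have hW : Nat.card (H.map D.subtype) = c := by
    rw [Subgroup.card_map_of_injective D.subtype_injective]
    exact Nat.eq_of_mul_eq_mul_left (Fact.out : p.Prime).pos hmul
  refine ⟨H.map D.subtype, hW, fun g => ?_⟩
  have hsub : (Finset.univ.filter (· ∈ H.map D.subtype)) = regs P := by
    refine Finset.eq_of_subset_of_card_le (fun w hw => mem_regs.2 ⟨?_, fun h => hpc ?_⟩) ?_
    · exact Subgroup.map_subtype_le H (Finset.mem_filter.1 hw).2
    · exact hW ▸ h.trans (Subgroup.orderOf_dvd_natCard _ (Finset.mem_filter.1 hw).2)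
    · rw [card_regs hP hC, ← Fintype.card_subtype, ← Nat.card_eq_fintype_card, hW]
  rw [← hsub]
  simp

/-- The sum over a subgroup and a commuting element of coprime order. -/
theorem exists_nat_sum_commute (χ : IrrCharacter G) (a : G) (W : Subgroup G)
    (hc : ∀ w ∈ W, Commute a w) :
    ∃ n : ℕ, ∑ u : Subgroup.zpowers a, ∑ w : W, (χ : G → ℂ) ((u : G) * w) =
      ((orderOf a * Nat.card W * n : ℕ) : ℂ) := by
  let φ : Subgroup.zpowers a × W →* G :=
    (Subgroup.zpowers a).subtype.noncommCoprod W.subtype fun u w => by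
      obtain ⟨i, hi⟩ := Subgroup.mem_zpowers_iff.1 u.2
      show Commute (u : G) (w : G)
      rw [← hi]
      exact (hc w w.2).zpow_left i
  obtain ⟨n, hn⟩ := (χ.2.isCharacter.comp φ).exists_nat_classInner
    (Char.isCharacter_one (G := Subgroup.zpowers a × W))
  simp only [classInner, map_one, mul_one] at hn
  rw [inv_mul_eq_iff_eq_mul₀ (Char.card_cast_ne_zero (G := Subgroup.zpowers a × W)),
    Fintype.sum_prod_type, Nat.card_prod, Nat.card_zpowers] at hn
  exact ⟨n, hn.trans (by push_cast; ring)⟩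

theorem sum_zpowers_two (f : G → ℂ) {z : G} (hz : orderOf z = 2) :
    ∑ v : Subgroup.zpowers z, f v = f 1 + f z := by
  have hset : (Finset.univ.erase (1 : Subgroup.zpowers z)) = {⟨z, Subgroup.mem_zpowers z⟩} := by
    refine (Finset.eq_of_subset_of_card_le ?_ ?_).symm
    · intro q hq
      rw [Finset.mem_singleton.1 hq]
      refine Finset.mem_erase.2 ⟨fun e => ?_, Finset.mem_univ _⟩
      rw [show z = 1 from congrArg Subtype.val e, orderOf_one] at hz
      omega
    · rw [card_erase_one, hz, Finset.card_singleton]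
  rw [← Finset.add_sum_erase _ _ (Finset.mem_univ (1 : Subgroup.zpowers z)), hset,
    Finset.sum_singleton]
  rfl

/-- A character of defect zero at the order of a commuting element: the value at an involution. -/
theorem two_mul_dvd_of_defectZero {q : ℕ} [Fact q.Prime] (χ : IrrCharacter G) (hq2 : q ≠ 2)
    (hd : (MEleven.deg χ).factorization q = (Nat.card G).factorization q) {a z : G}
    (ha : orderOf a = q) (hz : orderOf z = 2) (haz : Commute a z) {t : ℤ}
    (ht : (χ : G → ℂ) z = t) : ((2 * q : ℕ) : ℤ) ∣ (MEleven.deg χ : ℤ) + t := by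
  obtain ⟨n, hn⟩ := exists_nat_sum_mul χ haz (by
    rw [ha, hz]; exact ((Nat.coprime_primes (Fact.out : q.Prime) Nat.prime_two).2 hq2))
  have hvan : ∀ u ∈ Finset.univ.erase (1 : Subgroup.zpowers a), ∀ w : Subgroup.zpowers z,
      (χ : G → ℂ) ((u : G) * w) = 0 := by
    intro u hu w
    refine MEleven.apply_eq_zero_of_defectZero χ hd ?_
    have huo : orderOf (u : G) = q := by
      rcases (Nat.dvd_prime (Fact.out : q.Prime)).1 (ha ▸ orderOf_dvd_of_mem_zpowers u.2) with h | h
      · exact absurd (Subtype.ext (orderOf_eq_one_iff.1 h)) (Finset.ne_of_mem_erase hu)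
      · exact h
    have hcw : Commute (u : G) w := by
      obtain ⟨i, hi⟩ := Subgroup.mem_zpowers_iff.1 u.2
      obtain ⟨j, hj⟩ := Subgroup.mem_zpowers_iff.1 w.2
      rw [← hi, ← hj]
      exact haz.zpow_zpow i j
    rw [hcw.orderOf_mul_eq_mul_orderOf_of_coprime (by
      rw [huo]
      exact Nat.Coprime.coprime_dvd_right (orderOf_dvd_of_mem_zpowers w.2) (by
        rw [hz]; exact (Nat.coprime_primes (Fact.out : q.Prime) Nat.prime_two).2 hq2)), huo]
    exact dvd_mul_right _ _
  rw [← Finset.add_sum_erase _ _ (Finset.mem_univ (1 : Subgroup.zpowers a)),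
    Finset.sum_eq_zero fun u hu => Finset.sum_eq_zero fun w _ => hvan u hu w, add_zero] at hn
  simp only [OneMemClass.coe_one, one_mul] at hn
  rw [sum_zpowers_two _ hz, MEleven.apply_one, ht, ha, hz] at hn
  have hn' : (MEleven.deg χ : ℤ) + t = ((q * 2 * n : ℕ) : ℤ) := by exact_mod_cast hn
  exact ⟨n, by rw [hn']; push_cast; ring⟩

section Family

variable {e c : ℕ} (S : Small.Shape P e) (hC : Nat.card C[(P : Subgroup G)] = p * c)
include S hC

theorem deg_dvd_mul {χ : IrrCharacter G} (hχ : χ ∈ S.Z) {m : ℕ} (hm : Nat.card G = p * c * m) :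
    MEleven.deg χ ∣ m := by
  have hP := S.card_P
  haveI : Nontrivial (P : Subgroup G) := by
    rw [← Finite.one_lt_card_iff_nontrivial, hP]; exact (Fact.out : p.Prime).one_lt
  obtain ⟨⟨x, hx⟩, hx1'⟩ := exists_ne (1 : (P : Subgroup G))
  have hx1 : x ≠ 1 := fun h => hx1' (Subtype.ext h)
  have hxs : x ∈ sing P := mem_sing.2 ⟨le_centralizer_self hP hx, (orderOf_of_mem hP hx hx1).symm.dvd⟩
  have hcl : (Char.classFinset x).card = m := by
    refine Nat.eq_of_mul_eq_mul_right (Nat.card_pos (α := Subgroup.centralizer ({x} : Set G))) ?_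
    rw [Char.card_classFinset, Subgroup.index_mul_card, centralizer_singleton_eq hP hx hx1, hC, hm,
      mul_comm]
  have hint : IsIntegral ℤ ((m : ℂ) * (S.σ χ : ℂ) / (MEleven.deg χ : ℂ)) := by
    rcases S.mem_Z.1 hχ with rfl | h
    · have hY : ∀ θ' ∈ S.Y, (θ' : G → ℂ) 1 = (S.θ : G → ℂ) 1 := fun θ' h' =>
        S.agree θ' h' 1 (by rw [orderOf_one]; exact (Fact.out : p.Prime).not_dvd_one)
      rw [← sum_Y_sing hP S hC hxs, Finset.mul_sum, Finset.sum_div, ← MEleven.apply_one]
      refine IsIntegral.sum _ fun θ' h' => ?_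
      rw [← hY θ' h', ← hcl]
      exact θ'.2.isIntegral_class x
    · rw [← val_sing hP S hC h hxs, ← MEleven.apply_one, ← hcl]
      exact χ.2.isIntegral_class x
  obtain ⟨q, hq⟩ := Char.exists_int_of_isIntegral_rat
    (q := (((m : ℤ) * S.σ χ : ℤ) : ℚ) / (MEleven.deg χ : ℚ)) (by push_cast; exact hint)
  rw [div_eq_iff (Nat.cast_ne_zero.2 (Block.charDegree_pos χ).ne')] at hq
  have hq' : (m : ℤ) * S.σ χ = q * (MEleven.deg χ : ℤ) := by exact_mod_cast hq
  apply Int.natCast_dvd_natCast.1
  rcases S.sign χ hχ with h | h <;> rw [h] at hq'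
  · exact ⟨q, by linear_combination hq'⟩
  · exact ⟨-q, by linear_combination -hq'⟩

/-- The members of the family are invariant under the power maps, when the degree determines them. -/
theorem pow_invariant (hc : c ≠ 0) {χ : IrrCharacter G} (hχ : χ ∈ S.Z) {g : G}
    (huniq : ∀ ψ ∈ S.X ∪ S.Y, MEleven.deg ψ = MEleven.deg χ → (ψ : G → ℂ) g = (χ : G → ℂ) g)
    {k : ℕ} (hk : k.Coprime (Nat.card G)) : (χ : G → ℂ) (g ^ k) = (χ : G → ℂ) g := by
  set ψ : IrrCharacter G := ⟨fun h => (χ : G → ℂ) (h ^ k), Char.isIrrCharacter_comp_pow hk χ.2⟩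
  have hP := S.card_P
  have hd : MEleven.deg ψ = MEleven.deg χ := by
    have h := MEleven.apply_one ψ
    rw [show (ψ : G → ℂ) 1 = (χ : G → ℂ) (1 ^ k) from rfl, one_pow, MEleven.apply_one] at h
    exact_mod_cast h.symm
  have hsum : sSum P ψ = sSum P χ := by
    refine Finset.sum_equiv (Equiv.ofBijective _ (Char.powBij_of_coprime hk)) (fun h => ?_) fun h _ => rfl
    have hko : (orderOf h).Coprime k := (hk.coprime_dvd_right (orderOf_dvd_natCard h)).symm
    have hord : orderOf (h ^ k) = orderOf h := hko.orderOf_pow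
    rw [mem_sing, mem_sing]
    show h ∈ _ ∧ p ∣ orderOf h ↔ h ^ k ∈ _ ∧ p ∣ orderOf (h ^ k)
    rw [hord]
    refine ⟨fun h' => ⟨pow_mem h'.1 k, h'.2⟩, fun h' => ⟨?_, h'.2⟩⟩
    obtain ⟨j, hj⟩ := exists_pow_eq_self_of_coprime hko.symm
    exact hj ▸ pow_mem h'.1 j
  have hne : sSum P χ ≠ 0 := by
    rw [sSum_Z hP S hC hχ]
    refine mul_ne_zero (Nat.cast_ne_zero.2 ?_) (Int.cast_ne_zero.2 ?_)
    · have := (Fact.out : p.Prime).one_lt
      split_ifs
      · exact mul_ne_zero S.e_pos.ne' hc
      · exact mul_ne_zero (by omega) hc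
    · rcases S.sign χ hχ with h | h <;> simp [h]
  rcases mem_of_sSum_ne hP S hC (χ := ψ) (by rwa [hsum]) with h | h
  · exact huniq ψ (Finset.mem_union_left _ h) hd
  · exact huniq ψ (Finset.mem_union_right _ h) hd

end Family

/-- A rational value at an element of prime order dividing the group order once. -/
theorem sum_prime_order (χ : IrrCharacter G) {r m : ℕ} (hr : r.Prime) (hm : Nat.card G = r * m)
    (hrm : ¬ r ∣ m) {z : G} (hz : orderOf z = r)
    (hinv : ∀ k : ℕ, k.Coprime (Nat.card G) → (χ : G → ℂ) (z ^ k) = (χ : G → ℂ) z) :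
    ∃ a : ℤ, (χ : G → ℂ) z = a ∧ ∑ v : Subgroup.zpowers z, (χ : G → ℂ) v =
      (MEleven.deg χ : ℂ) + ((r - 1 : ℕ) : ℂ) * (a : ℂ) := by
  obtain ⟨a, ha⟩ := Char.exists_int_of_pow_invariant χ.2.isCharacter z hinv
  refine ⟨a, ha, ?_⟩
  rw [sum_zpowers_split, Finset.sum_congr rfl (g := fun _ => (a : ℂ)) fun v hv => ?_,
    Finset.sum_const, card_erase_one, hz, nsmul_eq_mul]
  obtain ⟨i, hi⟩ := mem_powers_iff_mem_zpowers.2 v.2
  simp only at hi
  have hir : ¬ r ∣ i := fun h => Finset.ne_of_mem_erase hv (Subtype.ext (by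
    rw [← hi, orderOf_dvd_iff_pow_eq_one.1 (show orderOf z ∣ i by rwa [hz])]; rfl))
  obtain ⟨k, hk1, hk2⟩ := Nat.chineseRemainder ((hr.coprime_iff_not_dvd).2 hrm) i 1
  have hkc : k.Coprime (Nat.card G) := by
    rw [hm]
    refine Nat.Coprime.mul_right ?_ ?_
    · rw [Nat.coprime_comm]; refine hr.coprime_iff_not_dvd.2 fun h => hir ?_
      exact (Nat.ModEq.dvd_iff hk1 dvd_rfl).1 h
    · have := hk2.gcd_eq
      rw [Nat.coprime_iff_gcd_eq_one, this]
      exact Nat.gcd_one_left m
  rw [← hi, ← ha, ← hinv k hkc]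
  rw [show z ^ i = z ^ k from pow_eq_pow_iff_modEq.2 (by rw [hz]; exact hk1.symm)]

end Cfsg.Lib.MTwentyFour.Eleven
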